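import Cfsg.Agent.Lib.TensorSympOrth.SymAlgebra
import Cfsg.Agent.Lib.TensorFormMax.SympSide
import Cfsg.Agent.Lib.TensorFormMax.Rigid

/-!
A symmetric and an alternating factor, the alternating one not smaller: an overgroup with an extra radical element
contains every transvection.
-/

set_option autoImplicit false

namespace Cfsg.Agent.Lib.TensorSympOrth.Full

open Matrix Kronecker
open Cfsg.Agent.Lib.Subspaces.Transvection Cfsg.Agent.Lib.Subspaces.FormVec
  Cfsg.Agent.Lib.TensorMax.Block Cfsg.Agent.Lib.TensorMax.Lemmas Cfsg.Agent.Lib.TensorFormMax.Basic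
  Cfsg.Agent.Lib.TensorFormMax.Radical Cfsg.Agent.Lib.TensorFormMax.Algebra
  Cfsg.Agent.Lib.TensorOrthMax.Side

variable {F : Type*} [Field F] {m k : ℕ}

local notation "V1" => Fin m → F
local notation "V2" => Fin k → F
local notation "Vec" => Fin m × Fin k → F
local notation "Big" => Matrix (Fin m × Fin k) (Fin m × Fin k) F
local notation "A1" => Matrix (Fin m) (Fin m) F
local notation "G" => GL (Fin m × Fin k) F

/-- An overgroup of the stabiliser of the tensor product. -/
structure Data (f₁ : (Fin m → F) → (Fin m → F) → F)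
    (f₂ : (Fin k → F) → (Fin k → F) → F) (B : (Fin m × Fin k → F) → (Fin m × Fin k → F) → F)
    (M : Subgroup (GL (Fin m × Fin k) F)) : Prop where
  h1 : Sym f₁
  h2 : Cfsg.Geo.IsSymplecticForm f₂
  lin : IsLinearLeft B
  addR : ∀ x y z, B x (y + z) = B x y + B x z
  Bswap : ∀ x y, B y x = -B x y
  hB : ∀ z u w, B z (tens u w) = f₁ (ctr (formVec f₂ w) z) u
  iso : ∀ g ∈ M, ∀ x y, B ((g : Big) *ᵥ x) ((g : Big) *ᵥ y) = B x y
  stab : ∀ g : GL (Fin m × Fin k) F, g ∈ Cfsg.Geo.kroneckerSubgroup m k F →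
    (∀ x y, B ((g : Big) *ᵥ x) ((g : Big) *ᵥ y) = B x y) → g ∈ M
  hm : 3 ≤ m
  big : 4 ≤ m ∨ ∃ c : F, c ≠ 0 ∧ c * c ≠ 1
  hk : 4 ≤ k

variable {f₁ : (Fin m → F) → (Fin m → F) → F} {f₂ : (Fin k → F) → (Fin k → F) → F}
  {B : (Fin m × Fin k → F) → (Fin m × Fin k → F) → F} {M : Subgroup (GL (Fin m × Fin k) F)}
  (D : Data f₁ f₂ B M)
include D

theorem smulR (c : F) (x y : Vec) : B x (c • y) = c * B x y := by
  rw [D.Bswap, D.lin.smul_left, D.Bswap y x]; ring

theorem zeroR (x : Vec) : B x 0 = 0 := by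
  rw [D.Bswap, form_zero_left D.lin, neg_zero]

theorem B_self (x : Vec) : B x x = 0 := by
  have := D.Bswap x x
  exact mul_left_cancel₀ D.h1.two (by linear_combination this)

theorem B_tens (u u' : V1) (w w' : V2) : B (tens u w) (tens u' w') = f₂ w w' * f₁ u u' := by
  rw [D.hB, ctr_tens, formVec_dot (isLinearLeft_of_bilinear D.h2.bilinear), D.h1.smulL]

theorem kron_left (g : A1) (φ : V2) (z : Vec) :
    ctr φ ((g ⊗ₖ (1 : Matrix (Fin k) (Fin k) F)) *ᵥ z) = g *ᵥ ctr φ z := by
  have _ := D.hm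
  funext i
  simp only [ctr, mulVec, dotProduct, kroneckerMap_apply, Matrix.one_apply, Fintype.sum_prod_type, mul_ite, mul_one,
    mul_zero, ite_mul, zero_mul, Finset.sum_ite_eq, Finset.mem_univ, if_true, Finset.mul_sum]
  rw [Finset.sum_comm]
  exact Finset.sum_congr rfl fun j _ => Finset.sum_congr rfl fun c _ => by ring

/-- Isometries of the first factor. -/
theorem left_mem {g g' : A1} (hgg : g * g' = 1) (hiso : ∀ x y, f₁ (g *ᵥ x) (g *ᵥ y) = f₁ x y) :
    ∃ h ∈ M, (h : Big) = g ⊗ₖ (1 : Matrix (Fin k) (Fin k) F) := by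
  let a : GL (Fin m) F := ⟨g, g', hgg, mul_eq_one_comm.1 hgg⟩
  refine ⟨kronGL a 1, D.stab _ (kronGL_mem _ _) fun x y => ?_, rfl⟩
  show B ((g ⊗ₖ (1 : Matrix (Fin k) (Fin k) F)) *ᵥ x) ((g ⊗ₖ (1 : Matrix (Fin k) (Fin k) F)) *ᵥ y) = B x y
  conv_lhs => arg 2; rw [← sum_tens_slice y, mulVec_sum]
  conv_rhs => rw [← sum_tens_slice y]
  let L : ∀ x, Vec →+ F := fun x => AddMonoidHom.mk' (B x) (D.addR x)
  show L _ _ = L _ _
  rw [map_sum, map_sum]
  refine Finset.sum_congr rfl fun i _ => ?_
  show B _ _ = B _ _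
  rw [kron_mulVec_tens, one_mulVec, D.hB, D.hB, kron_left D, hiso]

theorem root (v : V2) (c : F) : InM M (el (c • (1 : A1)) v (formVec f₂ v)) := by
  have h2 := Cfsg.Agent.Lib.TensorFormMax.SympSide.sform D.h2
  set φ := formVec f₂ v
  have h : φ ⬝ᵥ (c • v) = 0 := by rw [dotProduct_smul, h2.dot, D.h2.alternating, smul_zero]
  let g : G := kronGL 1 (tv (c • v) φ)
  have hg : (g : Big) = 1 + el (c • (1 : A1)) v φ := by
    show ((1 : GL (Fin m) F) : A1) ⊗ₖ (tv (c • v) φ : Matrix (Fin k) (Fin k) F) = _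
    rw [coe_tv h, Units.val_one, kronecker_add, one_kronecker_one, el, smul_kronecker, ← kronecker_smul,
      ← smul_vecMulVec]
  refine ⟨g, D.stab g (kronGL_mem _ _) fun x y => ?_, hg⟩
  rw [hg, add_mulVec, add_mulVec, one_mulVec, one_mulVec, scalar_el_mulVec, scalar_el_mulVec, D.lin.add_left,
    D.addR, D.addR, D.hB x, D.hB (tens _ v), D.Bswap y (tens _ v), D.hB y, ctr_tens, h2.dot, D.h2.alternating,
    zero_smul, D.h1.zeroL, D.h1.smulR, D.h1.smulR]
  rw [D.h1.comm (ctr (formVec f₂ v) y) (ctr (formVec f₂ v) x)]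
  ring

variable [Finite F]

omit [Finite F] in
theorem setting : Setting (RingHom.id F) 1 f₁ f₂ B M where
  h1 := D.h1.sf
  h2 := Cfsg.Agent.Lib.TensorFormMax.SympSide.sform D.h2
  rich := Cfsg.Agent.Lib.TensorFormMax.SympSide.rich D.h2
  lin := D.lin
  addR := D.addR
  Bswap x y := by rw [D.Bswap x y]; simp
  hB := D.hB
  iso := D.iso
  root v c _ _ := root D v c
  hm := by have := D.hm; omega
  hk := D.hk

/-- A root-like element gives a coefficient. -/
theorem allHas_of_el {v : V2} (hv : v ≠ 0) {A : A1} (h : InM M (el A v (formVec f₂ v))) : AllHas f₂ M A := by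
  have S := setting D
  have hD := (Cfsg.Agent.Lib.TensorFormMax.SympSide.duals D.h2).slides S
  have hvv := D.h2.alternating v
  obtain ⟨u, hu⟩ := exists_pair_at S hv hvv
  have hp : Pair f₂ u v := pair_symm S hu
  obtain ⟨w, hw, hwv, hwu⟩ := hD.two v u hu
  have h1 := Has.mul_el S hp.ne hp.left hvv hp.orth (s := (-1 : F) • w)
    (by rw [S.h2.smul_right, S.h2.swap, hwv, map_one, map_neg, map_one]; ring)
    (has_one S hp.left (by rw [S.h2.lin.smul_left, S.h2.smul_right, hw, mul_zero, mul_zero])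
      (by rw [S.h2.lin.smul_left, hwu, mul_zero])) h
  rw [one_mul] at h1
  exact allHas_of_has S hD hp h1

/-- All coefficients occur. -/
theorem allHas_all (hG : ¬ NoRadical f₂ M) (A : A1) : AllHas f₂ M A := by
  have S := setting D
  have hD := (Cfsg.Agent.Lib.TensorFormMax.SympSide.duals D.h2).slides S
  let R : Submodule F A1 :=
    { carrier := {A | AllHas f₂ M A}
      add_mem' := allHas_add S hD
      zero_mem' := fun v s _ => has_zero S v s
      smul_mem' := fun c A h => allHas_smul S hD h c }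
  have hne : (Pi.single ⟨0, by have := D.hk; omega⟩ 1 : V2) ≠ 0 := by simp
  have H : SymAlgebra.Hyp f₁ R :=
    { sym := D.h1, hm := D.hm, big := D.big, one := allHas_one S hD
      inv := fun g g' hgg hiso A hA v s hp => by
        obtain ⟨h, hh, hval⟩ := left_mem D hgg hiso
        obtain ⟨x, hx, h1, h2⟩ := hA v s hp
        have hinv : ((h⁻¹ : G) : Big) = g' ⊗ₖ (1 : Matrix (Fin k) (Fin k) F) :=
          Units.inv_eq_of_mul_eq_one_right
            (by rw [hval, ← Matrix.mul_kronecker_mul, hgg, one_mul, one_kronecker_one])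
        refine ⟨h * x * h⁻¹, M.mul_mem (M.mul_mem hh hx) (M.inv_mem hh), fun u => ?_, fun z hz => ?_⟩
        · rw [gl_mul_mulVec, gl_mul_mulVec, hinv, kron_mulVec_tens, one_mulVec, h1, hval, kron_mulVec_tens,
            one_mulVec, mulVec_mulVec, hgg, one_mulVec]
        · have hz' : ctr (formVec f₂ v) (((h⁻¹ : G) : Big) *ᵥ z) = 0 := by
            rw [hinv, kron_left D, hz, mulVec_zero]
          rw [gl_mul_mulVec, gl_mul_mulVec, h2 _ hz', mulVec_add, gl_mulVec_inv]
          dsimp only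
          rw [hinv, kron_left D, hval, kron_mulVec_tens, one_mulVec, mulVec_mulVec, mulVec_mulVec]
      adj := fun A A' hA hAA => by
        have h1 := el_all S hD hA (allHas_one S hD) hAA (C' := 1) (fun u u' => by rw [one_mulVec, one_mulVec])
          hne (D.h2.alternating _)
        rw [mul_one, one_mul] at h1
        have h2 := R.sub_mem (allHas_of_el D hne h1) (show A ∈ R from hA)
        rwa [add_sub_cancel_left] at h2
      jordan := fun A A' C C' hA hC hAA hCC X hX v t ht => by
        obtain ⟨w, hw, hwt, hwv⟩ := hD.two t v (pair_symm S ht)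
        have hp : Pair f₂ v ((-1 : F) • w) := ⟨ht.ne, ht.left, D.h2.alternating _,
          by rw [S.h2.lin.smul_left, hwv, mul_zero], fun e => by
            obtain ⟨d, hd⟩ := Submodule.mem_span_singleton.1 e
            have e1 : f₂ (d • v) t = f₂ ((-1 : F) • w) t := by rw [hd]
            rw [S.h2.lin.smul_left, S.h2.lin.smul_left, S.h2.eq_zero_comm ht.orth, hwt, mul_zero, mul_one] at e1
            exact neg_ne_zero.2 one_ne_zero e1.symm⟩
        exact Has.mul_el S ht.ne ht.left ht.right ht.orth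
          (by rw [S.h2.smul_right, S.h2.swap, hwt, map_one, map_neg, map_one]; ring) (hX v _ hp)
          (el_all S hD hA hC hAA hCC (pair_symm S ht).ne ht.right)
      nonscalar := by
        obtain ⟨A, hA, hA'⟩ := exists_nonscalar S hD hG
        exact ⟨A, hA', hA⟩ }
  exact ((SymAlgebra.eq_top H).symm ▸ Submodule.mem_top : A ∈ R)

omit [Finite F] in
/-- All transvections with a given centre lie in the group. -/
def Centre (_D : Data f₁ f₂ B M) (x : Vec) : Prop :=
  ∀ γ : F, ∃ g ∈ M, ∀ z, (g : Big) *ᵥ z = z + (γ * B z x) • x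

omit [Finite F] in
theorem centre_move {x y : Vec} (hx : Centre D x) (hy : Centre D y) (h : B x y ≠ 0) (t : F) :
    Centre D (x + t • y) := by
  obtain ⟨g, hg, hgz⟩ := hy (t / B x y)
  intro γ
  obtain ⟨T, hT, hTz⟩ := hx γ
  refine ⟨g * T * g⁻¹, M.mul_mem (M.mul_mem hg hT) (M.inv_mem hg), fun z => ?_⟩
  have hgx : (g : Big) *ᵥ x = x + t • y := by rw [hgz, div_mul_cancel₀ _ h]
  rw [gl_mul_mulVec, gl_mul_mulVec, hTz, mulVec_add, gl_mulVec_inv, mulVec_smul, hgx, ← D.iso g hg, gl_mulVec_inv,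
    hgx]

omit [Finite F] in
theorem centre_smul {x : Vec} (hx : Centre D x) (t : F) : Centre D (t • x) := fun γ => by
  obtain ⟨g, hg, hgz⟩ := hx (γ * (t * t))
  exact ⟨g, hg, fun z => by rw [hgz, smulR D, smul_smul]; congr 2; ring⟩

theorem centre_pure (hall : ∀ A : A1, AllHas f₂ M A) (a : V1) (v : V2) : Centre D (tens a v) := by
  intro γ
  rcases eq_or_ne v 0 with rfl | hv
  · exact ⟨1, M.one_mem, fun z => by rw [tens_zero_right, smul_zero, add_zero, Units.val_one, one_mulVec]⟩
  set A := (γ / 2) • vecMulVec a (formVec f₁ a)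
  have hAA : AdjPair f₁ A A := fun u u' => by
    simp only [A, smul_mulVec, vecMulVec_mulVec, op_smul_eq_smul, D.h1.dot, D.h1.smulL, D.h1.smulR, D.h1.comm u' a]
    ring
  obtain ⟨g, hg, hval⟩ := el_all (setting D) ((Cfsg.Agent.Lib.TensorFormMax.SympSide.duals D.h2).slides (setting D)) (hall A) (hall 1)
    hAA (C' := 1) (fun u u' => by rw [one_mulVec, one_mulVec]) hv (D.h2.alternating v)
  refine ⟨g, hg, fun z => ?_⟩
  rw [hval, mul_one, one_mul, add_mulVec, one_mulVec, el_mulVec, D.hB]
  simp only [A, add_mulVec, smul_mulVec, vecMulVec_mulVec, op_smul_eq_smul, D.h1.dot, tens_add_left, tens_smul_left]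
  have := D.h1.two
  match_scalars <;> field_simp <;> ring

/-- Every vector is a centre. -/
theorem centre_all (hall : ∀ A : A1, AllHas f₂ M A) (x : Vec) : Centre D x := by
  classical
  have hp := centre_pure D hall
  have h2 := D.h1.two
  -- a pure tensor not orthogonal to two others
  have hlink : ∀ {n : ℕ} {f : (Fin n → F) → (Fin n → F) → F}, (∀ v, v ≠ 0 → ∃ y, f y v ≠ 0) → IsLinearLeft f →
      ∀ p q : Fin n → F, p ≠ 0 → q ≠ 0 → ∃ y, f y p ≠ 0 ∧ f y q ≠ 0 := by
    intro n f hnd hl p q hp hq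
    obtain ⟨y, hy⟩ := hnd p hp
    obtain ⟨z, hz⟩ := hnd q hq
    by_cases h1 : f y q ≠ 0
    · exact ⟨y, hy, h1⟩
    by_cases h2 : f z p ≠ 0
    · exact ⟨z, h2, hz⟩
    push Not at h1 h2
    exact ⟨y + z, by rw [hl.add_left, h2, add_zero]; exact hy, by rw [hl.add_left, h1, zero_add]; exact hz⟩
  have hadd : ∀ x y, Centre D x → Centre D y → Centre D (x + y) := by
    intro x y hx hy
    by_cases hxy : B x y ≠ 0
    · simpa using centre_move D hx hy hxy 1
    push Not at hxy
    by_cases hdep : x ∈ Submodule.span F {y}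
    · obtain ⟨c, rfl⟩ := Submodule.mem_span_singleton.1 hdep
      rw [show c • y + y = (c + 1) • y by module]
      exact centre_smul D hy _
    by_cases hy0 : y = 0
    · rwa [hy0, add_zero]
    -- independent images of two pure tensors
    let img : Vec → Fin 2 → F := fun z => ![B x z, B y z]
    have hzero : ∀ w : Vec, (∀ a v, B w (tens a v) = 0) → w = 0 := fun w hw => by
      rw [← sum_tens_slice w]
      refine Finset.sum_eq_zero fun i _ => ?_
      have : slice w i = 0 := by
        by_contra hne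
        obtain ⟨v, hv⟩ := (Cfsg.Agent.Lib.TensorFormMax.SympSide.sform D.h2).nondeg _ hne
        have e : ctr (formVec f₂ v) w = 0 := D.h1.sf.eq_of_left fun u => by
          rw [D.h1.zeroL, ← D.hB, hw]
        refine hv ?_
        rw [D.h2.skew, ← formVec_dot (isLinearLeft_of_bilinear D.h2.bilinear), ← ctr_eq_dot, e]
        simp
      rw [this, tens_zero_right]
    obtain ⟨a1, v1, h1⟩ : ∃ a v, B y (tens a v) ≠ 0 := by
      by_contra hc
      push Not at hc
      exact hy0 (hzero y hc)
    set r := B x (tens a1 v1) / B y (tens a1 v1)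
    obtain ⟨a2, v2, h2'⟩ : ∃ a v, B (x - r • y) (tens a v) ≠ 0 := by
      by_contra hc
      push Not at hc
      exact hdep (Submodule.mem_span_singleton.2 ⟨r, (sub_eq_zero.1 (hzero _ hc)).symm⟩)
    rw [form_sub_left D.lin, D.lin.smul_left] at h2'
    have key : ∀ z1 z2, Centre D z1 → Centre D z2 → B z1 z2 ≠ 0 → B x z1 * B y z2 - B y z1 * B x z2 ≠ 0 →
        Centre D (x + y) := by
      intro z1 z2 hc1 hc2 h12 hdet
      set δ := B x z1 * B y z2 - B y z1 * B x z2
      set z := ((B y z2 - B x z2) / δ) • z1 + ((B x z1 - B y z1) / δ) • z2 with hz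
      have hxz : B x z = 1 := by
        rw [hz, D.addR, smulR D, smulR D]
        field_simp
        simp only [δ]; ring
      have hyz : B y z = 1 := by
        rw [hz, D.addR, smulR D, smulR D]
        field_simp
        simp only [δ]; ring
      have hcz : Centre D z := by
        by_cases hc0 : (B y z2 - B x z2) / δ = 0
        · rw [hz, hc0, zero_smul, zero_add]; exact centre_smul D hc2 _
        · rw [hz]
          exact centre_move D (centre_smul D hc1 _) hc2 (by rw [D.lin.smul_left]; exact mul_ne_zero hc0 h12) _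
      have e1 := centre_move D hx hcz (by rw [hxz]; exact one_ne_zero) 1
      rw [one_smul] at e1
      have e2 := centre_move D e1 hy (by
        rw [D.lin.add_left, hxy, D.Bswap, hyz, zero_add]; exact neg_ne_zero.2 one_ne_zero) 1
      rw [one_smul] at e2
      have e3 := centre_move D e2 hcz (by
        rw [D.lin.add_left, D.lin.add_left, hxz, hyz, B_self D, add_zero, one_add_one_eq_two]; exact h2) (-1)
      rwa [show x + z + y + (-1 : F) • z = x + y by module] at e3
    set z1 := tens a1 v1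
    set z2 := tens a2 v2
    have hdet : B x z1 * B y z2 - B y z1 * B x z2 ≠ 0 := fun e => h2' (by
      have hr : r * B y z1 = B x z1 := div_mul_cancel₀ _ h1
      refine mul_left_cancel₀ h1 ?_
      rw [mul_zero]
      linear_combination -e - B y z2 * hr)
    by_cases h12 : B z1 z2 ≠ 0
    · exact key z1 z2 (hp _ _) (hp _ _) h12 hdet
    push Not at h12
    have hz1 : a1 ≠ 0 ∧ v1 ≠ 0 := ⟨fun e => h1 (by simp only [z1, e, tens_zero_left, zeroR D]),
      fun e => h1 (by simp only [z1, e, tens_zero_right, zeroR D])⟩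
    have hz2 : a2 ≠ 0 ∧ v2 ≠ 0 := ⟨fun e => hdet (by simp only [z2, e, tens_zero_left, zeroR D]; ring),
      fun e => hdet (by simp only [z2, e, tens_zero_right, zeroR D]; ring)⟩
    obtain ⟨a, ha1, ha2⟩ := hlink D.h1.sf.nondeg D.h1.sf.lin a1 a2 hz1.1 hz2.1
    obtain ⟨v, hv1, hv2⟩ := hlink (Cfsg.Agent.Lib.TensorFormMax.SympSide.sform D.h2).nondeg
      (isLinearLeft_of_bilinear D.h2.bilinear) v1 v2 hz1.2 hz2.2
    set z3 := tens a v
    have h31 : B z3 z1 ≠ 0 := by rw [B_tens D]; exact mul_ne_zero hv1 ha1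
    have h32 : B z3 z2 ≠ 0 := by rw [B_tens D]; exact mul_ne_zero hv2 ha2
    by_cases hA : B x z1 * B y z3 - B y z1 * B x z3 ≠ 0
    · exact key z1 z3 (hp _ _) (hp _ _) (by rw [D.Bswap]; exact neg_ne_zero.2 h31) hA
    by_cases hC : B x z3 * B y z2 - B y z3 * B x z2 ≠ 0
    · exact key z3 z2 (hp _ _) (hp _ _) h32 hC
    push Not at hA hC
    have hcz : Centre D (z3 + z1) := by simpa using centre_move D (hp a v) (hp a1 v1) h31 1
    refine key (z3 + z1) z2 hcz (hp _ _) (by rw [D.lin.add_left, h12, add_zero]; exact h32) fun e => hdet ?_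
    rw [D.addR, D.addR] at e
    linear_combination e - hC
  rw [← sum_tens_slice x]
  exact Finset.sum_induction _ _ hadd (fun γ => ⟨1, M.one_mem, fun z => by
    rw [smul_zero, add_zero, Units.val_one, one_mulVec]⟩) fun i _ => hp _ _

omit [Finite F] in
/-- Rigidity for a smaller symmetric factor. -/
theorem rigid_lt [Finite F] (hlt : m < k) (hNR : NoRadical f₂ M) : M ≤ Cfsg.Geo.kroneckerSubgroup m k F := by
  intro g hg
  have := D.hm
  have hv : (Pi.single ⟨0, by omega⟩ 1 : V2) ≠ 0 := by simp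
  obtain ⟨v0, hv0, hv0s⟩ := exists_common_zero_not_mem (⊥ : Submodule F V2)
    (fun i => formVec f₂ (slice ((g : Big) *ᵥ tens (Pi.single ⟨0, by omega⟩ 1) (Pi.single ⟨0, by omega⟩ 1)) i))
    (by simp only [finrank_bot, Fintype.card_fin]; omega)
  refine Cfsg.Agent.Lib.TensorFormMax.Rigid.mem_of_orth (setting D) (Or.inl hlt) hNR hg hv (D.h2.alternating _)
    (by simpa using hv0) (D.h2.alternating v0) (a' := Pi.single ⟨0, by omega⟩ 1) (by simp) fun i => ?_
  rw [← formVec_dot (isLinearLeft_of_bilinear D.h2.bilinear)]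
  exact hv0s i

end Cfsg.Agent.Lib.TensorSympOrth.Full
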