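import Cfsg.Agent.Lib.TensorSympOrth.Full
import Mathlib.RingTheory.LittleWedderburn

/-!
Two factors of dimension four, one symmetric and one alternating: an element outside the tensor product
stabiliser would attach to every Lagrangian plane a spread, and the spreads would come from one quadratic field.
-/

set_option autoImplicit false

namespace Cfsg.Agent.Lib.TensorSympOrth.SquareRigid

open Matrix Kronecker
open Cfsg.Agent.Lib.Subspaces.Transvection Cfsg.Agent.Lib.Subspaces.FormVec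
  Cfsg.Agent.Lib.TensorMax.Block Cfsg.Agent.Lib.TensorMax.Lemmas Cfsg.Agent.Lib.TensorFormMax.Basic
  Cfsg.Agent.Lib.TensorOrthMax.Side Cfsg.Agent.Lib.TensorOrthMax.Setup Cfsg.Agent.Lib.TensorSympOrth.Full

variable {F : Type*} [Field F] {m k : ℕ}

local notation "V1" => Fin m → F
local notation "V2" => Fin k → F
local notation "Vec" => Fin m × Fin k → F
local notation "Big" => Matrix (Fin m × Fin k) (Fin m × Fin k) F
local notation "A1" => Matrix (Fin m) (Fin m) F
local notation "G" => GL (Fin m × Fin k) F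

variable {f₁ : (Fin m → F) → (Fin m → F) → F} {f₂ : (Fin k → F) → (Fin k → F) → F}
  {B : (Fin m × Fin k → F) → (Fin m × Fin k → F) → F} {M : Subgroup (GL (Fin m × Fin k) F)}

/-- A totally isotropic plane. -/
structure Lag (f₂ : (Fin k → F) → (Fin k → F) → F) (P : Submodule F (Fin k → F)) : Prop where
  rank : Module.finrank F P = 2
  iso : ∀ x ∈ P, ∀ y ∈ P, f₂ x y = 0

/-- An element outside the stabiliser. -/
structure Bad (f₁ : (Fin m → F) → (Fin m → F) → F) (f₂ : (Fin k → F) → (Fin k → F) → F)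
    (B : (Fin m × Fin k → F) → (Fin m × Fin k → F) → F) (M : Subgroup (GL (Fin m × Fin k) F))
    (g : GL (Fin m × Fin k) F) : Prop where
  data : Data f₁ f₂ B M
  hm4 : m = 4
  hk4 : k = 4
  rad : NoRadical f₂ M
  mem : g ∈ M
  nmem : g ∉ Cfsg.Geo.kroneckerSubgroup m k F

/-- The map of one block followed by a contraction. -/
def C (f₂ : (Fin k → F) → (Fin k → F) → F) (g : GL (Fin m × Fin k) F) (v w : Fin k → F) :
    (Fin m → F) →ₗ[F] (Fin m → F) where
  toFun a := ctr (formVec f₂ w) ((g : Big) *ᵥ tens a v)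
  map_add' a b := by rw [tens_add_left, mulVec_add, ctr_add]
  map_smul' c a := by rw [RingHom.id_apply, tens_smul_left, mulVec_smul, ctr_smul]

/-- A plane of the spread attached to two vectors. -/
structure Fib (f₂ : (Fin k → F) → (Fin k → F) → F) (g : GL (Fin m × Fin k) F) (v v' : Fin k → F)
    (P : Submodule F (Fin k → F)) (Φ : (Fin m → F) →ₗ[F] (Fin m → F)) : Prop where
  lag : Lag f₂ P
  ker : ∀ w ∈ P, ∀ ξ, C f₂ g v w ξ + C f₂ g v' w (Φ ξ) = 0
  img : ∀ ξ, (g : Big) *ᵥ (tens ξ v + tens (Φ ξ) v') ∈ Tn m P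

theorem Lag.exists_mem {P : Submodule F V2} (hP : Lag f₂ P) (T : Submodule F V2) (hT : Module.finrank F T < 2) :
    ∃ p ∈ P, p ∉ T := by
  by_contra hc
  push Not at hc
  have := Submodule.finrank_mono (show P ≤ T from hc)
  rw [hP.rank] at this
  omega

theorem Lag.eq_plane {P : Submodule F V2} (hP : Lag f₂ P) {p q : V2} (hp : p ≠ 0) (hpq : q ∉ Submodule.span F {p})
    (hpP : p ∈ P) (hqP : q ∈ P) : plane p q = P :=
  Submodule.eq_of_le_of_finrank_le (Submodule.span_le.2 (by rintro x (rfl | rfl) <;> assumption))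
    (by rw [hP.rank, finrank_plane hp hpq])

variable [Finite F] {g : GL (Fin m × Fin k) F} (H : Bad f₁ f₂ B M g)
include H

theorem symm : Bad f₁ f₂ B M g⁻¹ :=
  ⟨H.data, H.hm4, H.hk4, H.rad, M.inv_mem H.mem, fun e => H.nmem (by simpa using inv_mem e)⟩

omit [Finite F] in
theorem hF : SForm (RingHom.id F) (-1) f₂ :=
  Cfsg.Agent.Lib.TensorFormMax.SympSide.sform H.data.h2

omit [Finite F] in
theorem sep : Cfsg.Agent.Lib.TensorFormMax.RootKron.Sep m k (RingHom.id F) (1 : F) :=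
  Or.inr ⟨by rw [H.hm4, H.hk4], rfl, fun _ => rfl, H.data.h1.two⟩

omit [Finite F] in
theorem C_apply (v w : V2) (a : V1) : C f₂ g v w a = ctr (formVec f₂ w) ((g : Big) *ᵥ tens a v) := by
  have _ := H.hm4
  rfl

omit [Finite F] in
theorem ctr_add_vec (s t : V2) (z : Vec) :
    ctr (formVec f₂ (s + t)) z = ctr (formVec f₂ s) z + ctr (formVec f₂ t) z :=
  funext fun i => by
    rw [Pi.add_apply, ctr_eq_dot, ctr_eq_dot, ctr_eq_dot, (hF H).dot, (hF H).dot, (hF H).dot, (hF H).add_right]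

omit [Finite F] in
theorem ctr_smul_vec (c : F) (s : V2) (z : Vec) :
    ctr (formVec f₂ (c • s)) z = c • ctr (formVec f₂ s) z :=
  funext fun i => by
    rw [Pi.smul_apply, ctr_eq_dot, ctr_eq_dot, (hF H).dot, (hF H).dot, (hF H).smul_right, RingHom.id_apply,
      smul_eq_mul]

omit [Finite F] in
theorem C_add (v w w' : V2) (a : V1) : C f₂ g v (w + w') a = C f₂ g v w a + C f₂ g v w' a := by
  simp only [C_apply H, ctr_add_vec H]

omit [Finite F] in
theorem C_smul (v : V2) (c : F) (w : V2) (a : V1) : C f₂ g v (c • w) a = c • C f₂ g v w a := by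
  simp only [C_apply H, ctr_smul_vec H]

omit [Finite F] in
theorem ctr_zero_iff {w : V2} {z : Vec} : ctr (formVec f₂ w) z = 0 ↔ ∀ i, f₂ (slice z i) w = 0 :=
  ⟨fun h i => by rw [← (hF H).dot, ← ctr_eq_dot, h]; rfl,
    fun h => funext fun i => by rw [ctr_eq_dot, (hF H).dot, h]; rfl⟩

/-- Every moved block has full rank. -/
theorem full {v w : V2} (hv : v ≠ 0) (hw : w ≠ 0) {a : V1} (h : C f₂ g v w a = 0) : a = 0 := by
  by_contra ha
  refine H.nmem (Cfsg.Agent.Lib.TensorFormMax.Rigid.mem_of_orth (setting H.data) (sep H) H.rad H.mem hv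
    (H.data.h2.alternating v) hw (H.data.h2.alternating w) ha fun i => ?_)
  exact (hF H).eq_zero_comm ((ctr_zero_iff H).1 h i)

/-- No pure tensor comes from a tensor orthogonal to a block. -/
theorem pure_out {x : Vec} {u : V2} (hu : u ≠ 0) (hxu : ctr (formVec f₂ u) x = 0) {a : V1} {p : V2}
    (h : (g : Big) *ᵥ x = tens a p) : x = 0 := by
  by_contra hx
  have hap : tens a p ≠ 0 := fun e => hx (gl_mulVec_injective g
    (show (g : Big) *ᵥ x = (g : Big) *ᵥ 0 by rw [h, e, mulVec_zero]))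
  have hx' : ((g⁻¹ : G) : Big) *ᵥ tens a p = x := by rw [← h, gl_inv_mulVec]
  refine (symm H).nmem (Cfsg.Agent.Lib.TensorFormMax.Rigid.mem_of_orth (setting H.data) (sep H) H.rad
    (M.inv_mem H.mem) (fun e => hap (by rw [e, tens_zero_right])) (H.data.h2.alternating p) hu
    (H.data.h2.alternating u) (a' := a) (fun e => hap (by rw [e, tens_zero_left])) fun i => ?_)
  rw [hx']
  exact (hF H).eq_zero_comm ((ctr_zero_iff H).1 hxu i)

/-- A tensor orthogonal to a block whose image is orthogonal to a block is carried back by the stabiliser. -/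
theorem back {x : Vec} {u w : V2} (hu : u ≠ 0) (hw : w ≠ 0) (hxu : ctr (formVec f₂ u) x = 0)
    (hxw : ctr (formVec f₂ w) ((g : Big) *ᵥ x) = 0) :
    ∃ k' ∈ M, k' ∈ Cfsg.Geo.kroneckerSubgroup m k F ∧ (k' : Big) *ᵥ ((g : Big) *ᵥ x) = x := by
  have S := setting H.data
  have hmk := sep H
  have huu := H.data.h2.alternating u
  have hww := H.data.h2.alternating w
  obtain ⟨R0, hR0, hR0v⟩ := S.root_one huu
  obtain ⟨T0, hT0, hT0v⟩ := S.root_one hww
  set T : G := g⁻¹ * T0 * g with hTdef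
  obtain ⟨p, hp⟩ := CharP.exists F
  haveI : Fact p.Prime :=
    ⟨(CharP.char_is_prime_or_zero F p).resolve_right (CharP.char_ne_zero_of_finite F p)⟩
  have hsq : ∀ {w : V2}, f₂ w w = 0 → el (1 : A1) w (formVec f₂ w) * el (1 : A1) w (formVec f₂ w) = 0 :=
    fun {w} h => by rw [el_mul, S.h2.dot, h, zero_smul]
  have hRp : R0 ^ p = 1 := Cfsg.Agent.Lib.TensorFormMax.Rigid.pow_eq_one hR0v (hsq huu)
  have hTp : T ^ p = 1 := by
    rw [hTdef, show g⁻¹ * T0 * g = g⁻¹ * T0 * g⁻¹⁻¹ by rw [inv_inv], conj_pow,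
      Cfsg.Agent.Lib.TensorFormMax.Rigid.pow_eq_one hT0v (hsq hww), mul_one, mul_inv_cancel]
  have hsub : Subgroup.closure ({R0, T} : Set G) ≤ M := by
    rw [Subgroup.closure_le]
    rintro x (rfl | rfl)
    · exact hR0
    · exact M.mul_mem (M.mul_mem (M.inv_mem H.mem) hT0) H.mem
  have hstep : ∀ x ∈ Subgroup.closure ({R0, T} : Set G),
      x * R0 * x⁻¹ ∈ Cfsg.Geo.kroneckerSubgroup m k F → x ∈ Cfsg.Geo.kroneckerSubgroup m k F := by
    intro x hx hxk
    refine Cfsg.Agent.Lib.TensorFormMax.BlkKron.mem_of_blk S hmk H.rad (hsub hx) hu huu ?_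
    refine Cfsg.Agent.Lib.TensorFormMax.RootKron.blk_of_kron S hmk
      (M.mul_mem (M.mul_mem (hsub hx) hR0) (M.inv_mem (hsub hx))) hu huu hxk ?_
    rw [← Units.val_mul, inv_mul_cancel_right, Units.val_mul, hR0v]
  obtain ⟨c, hc, hck⟩ := Cfsg.Agent.Lib.TensorFormMax.SylowArg.exists_conj_mem _ hRp hTp
    (Cfsg.Agent.Lib.TensorFormMax.RootKron.root_mem_kron S huu (c := 1) (by rw [one_smul]; exact hR0v)) hstep
  have hcM : c ∈ M := hsub hc
  have hgM : c⁻¹ * g⁻¹ ∈ M := M.mul_mem (M.inv_mem hcM) (M.inv_mem H.mem)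
  have hblk : Blk f₂ (c⁻¹ * g⁻¹) w := by
    refine Cfsg.Agent.Lib.TensorFormMax.RootKron.blk_of_kron S hmk
      (M.mul_mem (M.mul_mem (M.inv_mem hcM) (hsub (Subgroup.subset_closure (by simp)))) hcM) hw hww hck ?_
    rw [← Units.val_mul, show c⁻¹ * T * c * (c⁻¹ * g⁻¹) = c⁻¹ * g⁻¹ * T0 by rw [hTdef]; group,
      Units.val_mul, hT0v]
  refine ⟨c⁻¹ * g⁻¹, hgM, Cfsg.Agent.Lib.TensorFormMax.BlkKron.mem_of_blk S hmk H.rad hgM hw hww hblk, ?_⟩
  have hfix : (c : Big) *ᵥ x = x := by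
    clear hck hblk hgM hcM
    induction hc using Subgroup.closure_induction with
    | mem y hy =>
      rcases hy with rfl | rfl
      · rw [hR0v, add_mulVec, one_mulVec, el_mulVec, one_mulVec, hxu, tens_zero_left, add_zero]
      · rw [hTdef, gl_mul_mulVec, gl_mul_mulVec, hT0v, add_mulVec, one_mulVec, el_mulVec, one_mulVec, hxw,
          tens_zero_left, add_zero, gl_inv_mulVec]
    | one => rw [Units.val_one, one_mulVec]
    | mul y z _ _ hy hz => rw [gl_mul_mulVec, hz, hy]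
    | inv y _ hy => conv_lhs => rw [← hy, gl_inv_mulVec]
  rw [gl_mul_mulVec, gl_inv_mulVec]
  conv_lhs => rw [← hfix, gl_inv_mulVec]

/-- A vector orthogonal to a Lagrangian plane lies in it. -/
theorem mem_lag {P : Submodule F V2} (hP : Lag f₂ P) {p q z : V2} (hp : p ≠ 0) (hpq : q ∉ Submodule.span F {p})
    (hpP : p ∈ P) (hqP : q ∈ P) (h1 : f₂ z p = 0) (h2 : f₂ z q = 0) : z ∈ P := by
  let L : V2 →ₗ[F] F × F :=
    { toFun := fun z => (f₂ z p, f₂ z q)
      map_add' := fun x y => by simp [H.data.h2.bilinear.add_left]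
      map_smul' := fun c x => by simp [H.data.h2.bilinear.smul_left] }
  obtain ⟨p', hp', hp'p⟩ := Cfsg.Agent.Lib.TensorFormMax.SympSide.dual H.data.h2 (indep_symm hp hpq)
  obtain ⟨q', hq', hq'q⟩ := Cfsg.Agent.Lib.TensorFormMax.SympSide.dual H.data.h2 hpq
  have hsurj : Function.Surjective L := fun c => ⟨c.1 • p' + c.2 • q', by
    show (f₂ (c.1 • p' + c.2 • q') p, f₂ (c.1 • p' + c.2 • q') q) = c
    simp [H.data.h2.bilinear.add_left, H.data.h2.bilinear.smul_left, hp'p, hq'q,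
      hp' q (Submodule.mem_span_singleton_self q), hq' p (Submodule.mem_span_singleton_self p)]⟩
  have hd := LinearMap.finrank_range_add_finrank_ker L
  rw [LinearMap.range_eq_top.2 hsurj, finrank_top, Module.finrank_prod, Module.finrank_self,
    Module.finrank_fin_fun] at hd
  have hle : P ≤ LinearMap.ker L := fun x hx =>
    Prod.ext (hP.iso x hx p hpP) (hP.iso x hx q hqP)
  have hk := H.hk4
  rw [Submodule.eq_of_le_of_finrank_le hle (by rw [hP.rank]; omega)]
  exact Prod.ext h1 h2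

/-- The plane of the image. -/
theorem plane_image {π : Submodule F V2} (hπ : Lag f₂ π) {x : Vec} (hx : x ∈ Tn m π) (hx0 : x ≠ 0) {w : V2}
    (hw : w ≠ 0) (hxw : ctr (formVec f₂ w) ((g : Big) *ᵥ x) = 0) :
    ∃ P, Lag f₂ P ∧ (g : Big) *ᵥ x ∈ Tn m P ∧ w ∈ P ∧
      ∀ Q, Lag f₂ Q → (g : Big) *ᵥ x ∈ Tn m Q → Q = P := by
  obtain ⟨u, huπ, hu⟩ := hπ.exists_mem ⊥ (by rw [finrank_bot]; omega)
  have hu0 : u ≠ 0 := fun e => hu (by rw [e]; exact Submodule.zero_mem _)
  have hxu : ctr (formVec f₂ u) x = 0 := (ctr_zero_iff H).2 fun i => hπ.iso _ (hx i) _ huπ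
  obtain ⟨k', hk'M, hk'k, hk'y⟩ := back H hu0 hw hxu hxw
  obtain ⟨a, b, hab⟩ := inv_mem hk'k
  set y := (g : Big) *ᵥ x
  have hy : ((k'⁻¹ : G) : Big) *ᵥ x = y := by
    conv_lhs => rw [← hk'y, gl_inv_mulVec]
  set P := π.map (b : Matrix (Fin k) (Fin k) F).mulVecLin
  have hrank : Module.finrank F P = 2 := by
    rw [← hπ.rank]
    exact (Submodule.equivMapOfInjective _ (fun p q e => gl_mulVec_injective b e) π).finrank_eq.symm
  have hP : Lag f₂ P := by
    refine ⟨hrank, ?_⟩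
    rintro _ ⟨s, hs, rfl⟩ _ ⟨t, ht, rfl⟩
    obtain ⟨p, q, hpq⟩ := (setting H.data).exists_pair
    have hiso : ∀ s t, f₂ ((b : Matrix (Fin k) (Fin k) F) *ᵥ s) ((b : Matrix (Fin k) (Fin k) F) *ᵥ t) *
        f₁ ((a : A1) *ᵥ p) ((a : A1) *ᵥ q) = f₂ s t * f₁ p q := fun s t => by
      rw [← B_tens H.data, ← B_tens H.data, ← kron_mulVec_tens, ← kron_mulVec_tens, ← hab,
        H.data.iso _ (M.inv_mem hk'M)]
    obtain ⟨s0, hs0⟩ := (hF H).nondeg u hu0
    have hα : f₁ ((a : A1) *ᵥ p) ((a : A1) *ᵥ q) ≠ 0 := fun e => by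
      have := hiso s0 u
      rw [e, mul_zero] at this
      exact mul_ne_zero hs0 hpq this.symm
    have := hiso s t
    rw [hπ.iso s hs t ht, zero_mul] at this
    exact (mul_eq_zero.1 this).resolve_right hα
  have hyP : y ∈ Tn m P := by
    rw [← hy, hab]
    exact kron_mem_Tn hx
  obtain ⟨i, hi⟩ : ∃ i, slice y i ≠ 0 := by
    by_contra hc
    push Not at hc
    exact hx0 (pure_out H hu0 hxu (a := 0) (p := 0) (by
      rw [tens_zero_left]
      exact funext fun q => congrFun (hc q.1) q.2))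
  obtain ⟨j, hj⟩ : ∃ j, slice y j ∉ Submodule.span F {slice y i} := by
    by_contra hc
    push Not at hc
    obtain ⟨c, hcy⟩ := mem_Tn_line (show y ∈ Tn m (Submodule.span F {slice y i}) from hc)
    exact hx0 (pure_out H hu0 hxu hcy)
  refine ⟨P, hP, hyP, mem_lag H hP hi hj (hyP i) (hyP j) ((hF H).eq_zero_comm ((ctr_zero_iff H).1 hxw i))
    ((hF H).eq_zero_comm ((ctr_zero_iff H).1 hxw j)), fun Q hQ hyQ => ?_⟩
  rw [← hQ.eq_plane hi hj (hyQ i) (hyQ j), hP.eq_plane hi hj (hyP i) (hyP j)]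

section planes

variable {v v' : Fin k → F} (hv : v ≠ 0) (hv' : v' ∉ Submodule.span F {v}) (ho : f₂ v' v = 0)
include hv hv' ho

theorem plane_lag : Lag f₂ (plane v v') := by
  refine ⟨finrank_plane hv hv', fun x hx y hy => ?_⟩
  obtain ⟨a, b, rfl⟩ := mem_plane.1 hx
  obtain ⟨c, d, rfl⟩ := mem_plane.1 hy
  simp only [H.data.h2.bilinear.add_left, H.data.h2.bilinear.add_right, H.data.h2.bilinear.smul_left,
    H.data.h2.bilinear.smul_right, H.data.h2.alternating, ho, (hF H).eq_zero_comm ho]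
  ring

theorem v'_ne : v' ≠ 0 := fun e => hv' (by rw [e]; exact Submodule.zero_mem _)

theorem comb_eq_zero {ξ η : V1} (h : tens ξ v + tens η v' = 0) : ξ = 0 := by
  have _ := H.hm4
  have _ := ho
  funext i
  exact (coeff_eq_zero hv hv' (funext fun d => congrFun h (i, d) : ξ i • v + η i • v' = 0)).1

theorem X_mem (ξ η : V1) : tens ξ v + tens η v' ∈ Tn m (plane v v') := by
  have _ := H.hm4
  exact Submodule.add_mem _ (tens_mem_Tn ξ (left_mem_plane v v')) (tens_mem_Tn η (right_mem_plane v v'))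

/-- Every vector lies in a plane of the spread. -/
theorem exists_fib {w : V2} (hw : w ≠ 0) : ∃ P Φ, Fib f₂ g v v' P Φ ∧ w ∈ P := by
  have hv'0 := v'_ne H hv hv' ho
  let E := LinearEquiv.ofBijective (C f₂ g v' w) ((fun h => ⟨h, LinearMap.surjective_of_injective h⟩)
    ((injective_iff_map_eq_zero _).2 fun a ha => full H hv'0 hw ha))
  set Φ : V1 →ₗ[F] V1 := -(E.symm.toLinearMap ∘ₗ C f₂ g v w)
  set Y : V1 →ₗ[F] Vec :=
    { toFun := fun ξ => (g : Big) *ᵥ (tens ξ v + tens (Φ ξ) v')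
      map_add' := fun a b => by rw [map_add, tens_add_left, tens_add_left, ← mulVec_add]; congr 1; abel
      map_smul' := fun c a => by
        rw [map_smul, RingHom.id_apply, tens_smul_left, tens_smul_left, ← smul_add, mulVec_smul] }
  have hker : ∀ ξ, ctr (formVec f₂ w) (Y ξ) = 0 := fun ξ => by
    show ctr _ ((g : Big) *ᵥ (_ + _)) = 0
    rw [mulVec_add, ctr_add, ← C_apply H, ← C_apply H, show C f₂ g v' w (Φ ξ) = -C f₂ g v w ξ by
      show C f₂ g v' w (-(E.symm (C f₂ g v w ξ))) = _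
      rw [map_neg]
      exact congrArg Neg.neg (E.apply_symm_apply _), add_neg_cancel]
  have hY0 : ∀ ξ, Y ξ = 0 → ξ = 0 := fun ξ h =>
    comb_eq_zero H hv hv' ho (gl_mulVec_injective g (h.trans (mulVec_zero _).symm))
  have hpl : ∀ ξ, ξ ≠ 0 → ∃ P, Lag f₂ P ∧ Y ξ ∈ Tn m P ∧ w ∈ P := fun ξ hξ => by
    obtain ⟨P, h1, h2, h3, -⟩ := plane_image H (plane_lag H hv hv' ho) (X_mem H hv hv' ho ξ (Φ ξ))
      (fun e => hξ (comb_eq_zero H hv hv' ho e)) hw (hker ξ)
    exact ⟨P, h1, h2, h3⟩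
  have hpure : ∀ ξ p, Y ξ ∈ Tn m (Submodule.span F {p}) → ξ = 0 := fun ξ p h => by
    obtain ⟨a, ha⟩ := mem_Tn_line h
    have := pure_out H hv ((ctr_zero_iff H).2 fun i =>
      (plane_lag H hv hv' ho).iso _ (X_mem H hv hv' ho ξ (Φ ξ) i) _ (left_mem_plane v v')) ha
    exact comb_eq_zero H hv hv' ho this
  set ξ1 : V1 := Pi.single ⟨0, by have := H.hm4; omega⟩ 1
  have hξ1 : ξ1 ≠ 0 := by simp [ξ1]
  obtain ⟨P1, hP1, hY1, hwP1⟩ := hpl ξ1 hξ1
  have hall : ∀ ξ, Y ξ ∈ Tn m P1 := by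
    by_contra hc
    push Not at hc
    obtain ⟨ξ2, hξ2⟩ := hc
    obtain ⟨P2, hP2, hY2, hwP2⟩ := hpl ξ2 fun e => hξ2 (by rw [e, map_zero]; exact Submodule.zero_mem _)
    obtain ⟨p1, hp1, hp1n⟩ := hP1.exists_mem (Submodule.span F {w}) (by rw [finrank_span_singleton hw]; omega)
    obtain ⟨p2, hp2, hp2n⟩ := hP2.exists_mem (Submodule.span F {w}) (by rw [finrank_span_singleton hw]; omega)
    have e1 := hP1.eq_plane hw hp1n hwP1 hp1
    have e2 := hP2.eq_plane hw hp2n hwP2 hp2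
    have hp21 : p2 ∉ P1 := fun e => hξ2 (by rwa [← hP1.eq_plane hw hp2n hwP1 e, e2])
    have hp12 : p1 ∉ P2 := fun e => hξ2 (by rwa [← e1, hP2.eq_plane hw hp1n hwP2 e])
    obtain ⟨η1, hη1, hη1p⟩ := exists_functional hp12
    obtain ⟨η2, hη2, hη2p⟩ := exists_functional hp21
    -- the orthogonal of `w`
    have hperp : ∀ z, f₂ z w = 0 → ∃ a b c : F, z = a • w + b • p1 + c • p2 := by
      intro z hz
      let L : V2 →ₗ[F] F :=
        { toFun := fun z => f₂ z w
          map_add' := fun x y => H.data.h2.bilinear.add_left x y w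
          map_smul' := fun c x => H.data.h2.bilinear.smul_left c x w }
      have hle : P1 ⊔ Submodule.span F {p2} ≤ LinearMap.ker L :=
        sup_le (fun x hx => hP1.iso x hx w hwP1) ((Submodule.span_singleton_le_iff_mem _ _).2 (hP2.iso _ hp2 w hwP2))
      have hd := LinearMap.finrank_range_add_finrank_ker L
      have hr : LinearMap.range L = ⊤ := LinearMap.range_eq_top.2 fun c => by
        obtain ⟨x, hx⟩ := (hF H).exists_one hw
        exact ⟨c • x, by show f₂ (c • x) w = c; rw [H.data.h2.bilinear.smul_left, hx, mul_one]⟩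
      rw [hr, finrank_top, Module.finrank_self, Module.finrank_fin_fun] at hd
      have hlt : Module.finrank F P1 < Module.finrank F (P1 ⊔ Submodule.span F {p2} : Submodule F V2) :=
        Submodule.finrank_lt_finrank_of_lt (lt_of_le_of_ne le_sup_left fun e =>
          hp21 (e.symm ▸ Submodule.mem_sup_right (Submodule.mem_span_singleton_self p2)))
      have hk := H.hk4
      have heq := Submodule.eq_of_le_of_finrank_le hle (by rw [hP1.rank] at hlt; omega)
      have hzm : z ∈ P1 ⊔ Submodule.span F {p2} := heq.symm ▸ hz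
      obtain ⟨s, hs, t, ht, rfl⟩ := Submodule.mem_sup.1 hzm
      rw [← e1] at hs
      obtain ⟨a, b, rfl⟩ := mem_plane.1 hs
      obtain ⟨c, rfl⟩ := Submodule.mem_span_singleton.1 ht
      exact ⟨a, b, c, rfl⟩
    let Γ1 : V1 →ₗ[F] V1 :=
      { toFun := fun ξ => ctr η1 (Y ξ)
        map_add' := fun a b => by rw [map_add, ctr_add]
        map_smul' := fun c a => by rw [map_smul, ctr_smul, RingHom.id_apply] }
    let Γ2 : V1 →ₗ[F] V1 :=
      { toFun := fun ξ => ctr η2 (Y ξ)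
        map_add' := fun a b => by rw [map_add, ctr_add]
        map_smul' := fun c a => by rw [map_smul, ctr_smul, RingHom.id_apply] }
    have hpar : ∀ ξ, ∃ b, Γ1 ξ ∈ Submodule.span F {b} ∧ Γ2 ξ ∈ Submodule.span F {b} := by
      intro ξ
      rcases eq_or_ne ξ 0 with rfl | hξ
      · exact ⟨0, by rw [map_zero]; exact Submodule.zero_mem _, by rw [map_zero]; exact Submodule.zero_mem _⟩
      obtain ⟨P, hP, hY, hwP⟩ := hpl ξ hξ
      obtain ⟨p, hp, hpn⟩ := hP.exists_mem (Submodule.span F {w}) (by rw [finrank_span_singleton hw]; omega)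
      choose a b hab using fun i => mem_plane.1 ((hP.eq_plane hw hpn hwP hp).symm ▸ hY i : slice (Y ξ) i ∈ plane w p)
      have key : ∀ η : V2, η ⬝ᵥ w = 0 → ctr η (Y ξ) ∈ Submodule.span F {b} := fun η hη =>
        Submodule.mem_span_singleton.2 ⟨η ⬝ᵥ p, funext fun i => by
          rw [Pi.smul_apply, smul_eq_mul, ctr_eq_dot, ← hab i, dotProduct_add, dotProduct_smul, dotProduct_smul, hη,
            smul_zero, zero_add, smul_eq_mul, mul_comm]⟩
      exact ⟨b, key η1 (hη1 w hwP2), key η2 (hη2 w hwP1)⟩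
    have h21 : Γ2 ξ1 = 0 := funext fun i => by
      show ctr η2 _ i = 0
      rw [ctr_eq_dot]; exact hη2 _ (hY1 i)
    have h12 : Γ1 ξ2 = 0 := funext fun i => by
      show ctr η1 _ i = 0
      rw [ctr_eq_dot]; exact hη1 _ (hY2 i)
    have hzero : ∀ ξ, Γ1 ξ = 0 → Γ2 ξ = 0 → ξ = 0 := by
      intro ξ h1 h2
      refine hpure ξ w fun i => ?_
      obtain ⟨a, b, c, habc⟩ := hperp (slice (Y ξ) i) ((ctr_zero_iff H).1 (hker ξ) i)
      have d1 : η1 ⬝ᵥ slice (Y ξ) i = 0 := congrFun h1 i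
      have d2 : η2 ⬝ᵥ slice (Y ξ) i = 0 := congrFun h2 i
      rw [habc, dotProduct_add, dotProduct_add, dotProduct_smul, dotProduct_smul, dotProduct_smul,
        hη1 w hwP2, hη1p, hη1 p2 hp2] at d1
      rw [habc, dotProduct_add, dotProduct_add, dotProduct_smul, dotProduct_smul, dotProduct_smul,
        hη2 w hwP1, hη2p, hη2 p1 hp1] at d2
      simp at d1 d2
      rw [habc, d1, d2, zero_smul, zero_smul, add_zero, add_zero]
      exact Submodule.smul_mem _ _ (Submodule.mem_span_singleton_self w)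
    set β := Γ1 ξ1
    have hβ : β ≠ 0 := fun e => hξ1 (hzero ξ1 e h21)
    have hspan : ∀ {x b : V1}, b ≠ 0 → b ∈ Submodule.span F {x} → x ∈ Submodule.span F {b} := by
      intro x b hb h
      obtain ⟨c, rfl⟩ := Submodule.mem_span_singleton.1 h
      exact Submodule.mem_span_singleton.2 ⟨c⁻¹, by rw [inv_smul_smul₀ fun e => hb (by rw [e, zero_smul])]⟩
    have hsub : ∀ {x y b : V1}, x ∈ Submodule.span F {b} → y ∈ Submodule.span F {b} → y ≠ 0 →
        x ∈ Submodule.span F {y} := by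
      intro x y b hx hy hy0
      exact (Submodule.span_singleton_le_iff_mem _ _).2 (hspan hy0 hy) hx
    have hβ2 : Γ2 ξ2 ∈ Submodule.span F {β} := by
      obtain ⟨b, hb1, hb2⟩ := hpar (ξ1 + ξ2)
      rw [map_add, h12, add_zero] at hb1
      rw [map_add, h21, zero_add] at hb2
      exact hsub hb2 hb1 hβ
    have hrange : ∀ ξ, Γ1 ξ ∈ Submodule.span F {β} ∧ Γ2 ξ ∈ Submodule.span F {β} := by
      intro ξ
      obtain ⟨b, hb1, hb2⟩ := hpar ξ
      by_cases h0 : Γ2 ξ = 0
      · refine ⟨?_, h0 ▸ Submodule.zero_mem _⟩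
        obtain ⟨b', hc1, hc2⟩ := hpar (ξ + ξ2)
        rw [map_add, h12, add_zero] at hc1
        rw [map_add, h0, zero_add] at hc2
        have hne : Γ2 ξ2 ≠ 0 := fun e => hξ2 (by rw [hzero ξ2 h12 e, map_zero]; exact Submodule.zero_mem _)
        exact (Submodule.span_singleton_le_iff_mem _ _).2 hβ2 (hsub hc1 hc2 hne)
      · obtain ⟨b', hc1, hc2⟩ := hpar (ξ + ξ1)
        rw [map_add] at hc1
        rw [map_add, h21, add_zero] at hc2
        have hγ : Γ2 ξ ∈ Submodule.span F {β} := by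
          refine hspan hβ ?_
          have := Submodule.sub_mem _ (hsub hc1 hc2 h0) (hsub hb1 hb2 h0)
          rwa [add_sub_cancel_left] at this
        exact ⟨(Submodule.span_singleton_le_iff_mem _ _).2 hγ (hsub hb1 hb2 h0), hγ⟩
    obtain ⟨i0, hi0⟩ := Function.ne_iff.1 hβ
    let Ψ : V1 →ₗ[F] F × F :=
      { toFun := fun ξ => (Γ1 ξ i0, Γ2 ξ i0)
        map_add' := fun a b => by simp
        map_smul' := fun c a => by simp }
    have hinj : Function.Injective Ψ := by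
      rw [injective_iff_map_eq_zero]
      intro ξ hξ
      obtain ⟨c, hc⟩ := Submodule.mem_span_singleton.1 (hrange ξ).1
      obtain ⟨d, hd⟩ := Submodule.mem_span_singleton.1 (hrange ξ).2
      have h1 : Γ1 ξ i0 = 0 := (Prod.ext_iff.1 hξ).1
      have h2 : Γ2 ξ i0 = 0 := (Prod.ext_iff.1 hξ).2
      rw [← hc, Pi.smul_apply, smul_eq_mul] at h1
      rw [← hd, Pi.smul_apply, smul_eq_mul] at h2
      exact hzero ξ (by rw [← hc, (mul_eq_zero.1 h1).resolve_right hi0, zero_smul])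
        (by rw [← hd, (mul_eq_zero.1 h2).resolve_right hi0, zero_smul])
    have := LinearMap.finrank_le_finrank_of_injective hinj
    rw [Module.finrank_fin_fun, Module.finrank_prod, Module.finrank_self] at this
    have := H.hm4
    omega
  refine ⟨P1, Φ, ⟨hP1, fun w' hw' ξ => ?_, hall⟩, hwP1⟩
  rw [C_apply H, C_apply H, ← ctr_add, ← mulVec_add]
  exact (ctr_zero_iff H).2 fun i => hP1.iso _ (hall ξ i) w' hw'

theorem fib_unique {P P' : Submodule F V2} {Φ Φ' : V1 →ₗ[F] V1} (h : Fib f₂ g v v' P Φ)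
    (h' : Fib f₂ g v v' P' Φ') {w : V2} (hw : w ≠ 0) (hwP : w ∈ P) (hwP' : w ∈ P') : P = P' ∧ Φ = Φ' := by
  have hΦ : Φ = Φ' := LinearMap.ext fun ξ => by
    refine sub_eq_zero.1 (full H (v'_ne H hv hv' ho) hw ?_)
    rw [map_sub, sub_eq_zero]
    exact add_left_cancel ((h.ker w hwP ξ).trans (h'.ker w hwP' ξ).symm)
  refine ⟨?_, hΦ⟩
  subst hΦ
  set ξ : V1 := Pi.single ⟨0, by have := H.hm4; omega⟩ 1
  obtain ⟨Q, -, -, -, hQ⟩ := plane_image H (plane_lag H hv hv' ho) (X_mem H hv hv' ho ξ (Φ ξ))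
    (fun e => by simpa [ξ] using comb_eq_zero H hv hv' ho e) hw
    (by rw [mulVec_add, ctr_add, ← C_apply H, ← C_apply H]; exact h.ker w hwP ξ)
  rw [hQ P h.lag (h.img ξ), hQ P' h'.lag (h'.img ξ)]

omit [Finite F] in
theorem disjoint_of {P P' : Submodule F V2} (hne : ∀ w, w ≠ 0 → w ∈ P → w ∈ P' → False) : P ⊓ P' = ⊥ := by
  have _ := H.hm4
  rw [Submodule.eq_bot_iff]
  intro w hw
  by_contra h
  exact hne w h hw.1 hw.2

end planes

/-- The left nucleus. -/
def nucleus {v' : V2} (hv' : v' ≠ 0) : Subalgebra F (Module.End F (Fin m → F)) where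
  carrier := {T | ∀ w, ∃ w', ∀ ξ, C f₂ g v' w' ξ = T (C f₂ g v' w ξ)}
  mul_mem' := fun {S T} hS hT w => by
    obtain ⟨w', hw'⟩ := hT w
    obtain ⟨w'', hw''⟩ := hS w'
    exact ⟨w'', fun ξ => by rw [hw'', hw']; rfl⟩
  add_mem' := fun {S T} hS hT w => by
    obtain ⟨w', hw'⟩ := hS w
    obtain ⟨w'', hw''⟩ := hT w
    exact ⟨w' + w'', fun ξ => by rw [C_add H, hw', hw'']; rfl⟩
  algebraMap_mem' := fun c w => ⟨c • w, fun ξ => by
    have _ := hv'
    rw [C_smul H]; rfl⟩

/-- The quadratic element of the nucleus attached to a plane of the spread. -/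
theorem exists_quad {v v' : V2} (hv : v ≠ 0) (hv' : v' ∉ Submodule.span F {v}) (ho : f₂ v' v = 0) {e : V2}
    (he : e ≠ 0) :
    ∃ (P : Submodule F V2) (Φ : V1 →ₗ[F] V1) (f : V2) (T : Module.End F V1),
      Fib f₂ g v v' P Φ ∧ e ∈ P ∧ f ∈ P ∧ f ∉ Submodule.span F {e} ∧
      T ∈ nucleus H (v'_ne H hv hv' ho) ∧ (∀ ξ, C f₂ g v' f ξ = T (C f₂ g v' e ξ)) ∧
      ∃ α β : F, T * T = α • 1 + β • T := by
  have hv'0 := v'_ne H hv hv' ho
  obtain ⟨P1, Φ1, hF1, he1⟩ := exists_fib H hv hv' ho he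
  obtain ⟨e2, he2⟩ : ∃ e2, e2 ∉ P1 := by
    by_contra hc
    push Not at hc
    have := (eq_top_iff.2 fun x _ => hc x : P1 = ⊤)
    have hr := hF1.lag.rank
    rw [this, finrank_top, Module.finrank_fin_fun, H.hk4] at hr
    omega
  have he20 : e2 ≠ 0 := fun h => he2 (by rw [h]; exact Submodule.zero_mem _)
  obtain ⟨P2, Φ2, hF2, he22⟩ := exists_fib H hv hv' ho he20
  have d12 : P1 ⊓ P2 = ⊥ := disjoint_of H hv hv' ho fun w hw h1 h2 =>
    he2 ((fib_unique H hv hv' ho hF1 hF2 hw h1 h2).1 ▸ he22)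
  have hinjC : ∀ {w w' : V2}, (∀ ξ, C f₂ g v' w ξ = C f₂ g v' w' ξ) → w = w' := fun {w w'} h => by
    by_contra hne
    set ξ : V1 := Pi.single ⟨0, by have := H.hm4; omega⟩ 1
    have : ξ = 0 := full H hv'0 (sub_ne_zero.2 hne) (by
      rw [show w - w' = w + (-1 : F) • w' by module, C_add H, C_smul H, h, neg_one_smul, add_neg_cancel])
    simp [ξ] at this
  -- a third plane gives a bijection between the first two
  have third : ∀ {z : V2}, z ∈ P2 → z ≠ 0 → ∃ Gz : V1 ≃ₗ[F] V1,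
      (∀ w ∈ P1, ∃ z' ∈ P2, ∀ η, C f₂ g v' z' η = C f₂ g v' w (Gz η)) ∧
      (∀ z' ∈ P2, ∃ w ∈ P1, ∀ η, C f₂ g v' z' η = C f₂ g v' w (Gz η)) ∧
      ∀ η, C f₂ g v' z η = C f₂ g v' e (Gz η) := by
    intro z hz hz0
    have hez : e + z ≠ 0 := fun h => hz0 (by
      have : z ∈ P1 ⊓ P2 := ⟨by rw [eq_neg_of_add_eq_zero_right h]; exact P1.neg_mem he1, hz⟩
      rwa [d12, Submodule.mem_bot] at this)
    obtain ⟨P3, Φ3, hF3, h3⟩ := exists_fib H hv hv' ho hez
    have d13 : P1 ⊓ P3 = ⊥ := disjoint_of H hv hv' ho fun w hw h1 h2 => hz0 (by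
      have e13 := (fib_unique H hv hv' ho hF1 hF3 hw h1 h2).1
      have : z ∈ P1 ⊓ P2 := ⟨by simpa using P1.sub_mem (e13.symm ▸ h3 : e + z ∈ P1) he1, hz⟩
      rwa [d12, Submodule.mem_bot] at this)
    have d23 : P2 ⊓ P3 = ⊥ := disjoint_of H hv hv' ho fun w hw h1 h2 => he (by
      have e23 := (fib_unique H hv hv' ho hF2 hF3 hw h1 h2).1
      have : e ∈ P1 ⊓ P2 := ⟨he1, by simpa using P2.sub_mem (e23.symm ▸ h3 : e + z ∈ P2) hz⟩
      rwa [d12, Submodule.mem_bot] at this)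
    have htop : ∀ {P Q : Submodule F V2}, Lag f₂ P → Lag f₂ Q → P ⊓ Q = ⊥ → P ⊔ Q = ⊤ := by
      intro P Q hP hQ h
      refine Submodule.eq_top_of_finrank_eq ?_
      have hs := Submodule.finrank_sup_add_finrank_inf_eq P Q
      rw [h, finrank_bot, hP.rank, hQ.rank] at hs
      have := H.hk4
      rw [Module.finrank_fin_fun]
      omega
    have hEinj : Function.Injective (Φ3 - Φ2) := by
      rw [injective_iff_map_eq_zero]
      intro η hη
      have hη' : Φ3 η = Φ2 η := sub_eq_zero.1 hη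
      have h1 := hF2.img η
      have h2 := hF3.img η
      rw [hη'] at h2
      have h3 : (g : Big) *ᵥ (tens η v + tens (Φ2 η) v') ∈ Tn m (P2 ⊓ P3) := fun i => ⟨h1 i, h2 i⟩
      rw [d23] at h3
      exact comb_eq_zero H hv hv' ho (gl_mulVec_injective g ((Tn_bot h3).trans (mulVec_zero _).symm))
    let E := LinearEquiv.ofBijective (Φ3 - Φ2) ⟨hEinj, LinearMap.surjective_of_injective hEinj⟩
    set G0 : V1 →ₗ[F] V1 := -((Φ3 - Φ1) ∘ₗ E.symm.toLinearMap)
    have hrel : ∀ w ∈ P1, ∀ z' ∈ P2, w + z' ∈ P3 → ∀ η, C f₂ g v' z' η = C f₂ g v' w (G0 η) := by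
      intro w hw z' hz' hwz η
      obtain ⟨ξ, rfl⟩ := E.surjective η
      show C f₂ g v' z' (E ξ) = C f₂ g v' w (-((Φ3 - Φ1) (E.symm (E ξ))))
      rw [E.symm_apply_apply, show E ξ = Φ3 ξ - Φ2 ξ from rfl, LinearMap.sub_apply, map_sub, map_neg, map_sub]
      have a1 := hF1.ker w hw ξ
      have a2 := hF2.ker z' hz' ξ
      have a3 := hF3.ker _ hwz ξ
      rw [C_add H, C_add H] at a3
      linear_combination (norm := module) a3 - a1 - a2
    have hG0 : Function.Injective G0 := by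
      rw [injective_iff_map_eq_zero]
      intro η hη
      have := hrel e he1 z hz h3 η
      rw [hη, map_zero] at this
      exact full H hv'0 hz0 this
    refine ⟨LinearEquiv.ofBijective G0 ⟨hG0, LinearMap.surjective_of_injective hG0⟩, fun w hw => ?_,
      fun z' hz' => ?_, hrel e he1 z hz h3⟩
    · obtain ⟨q, hq, r, hr, hqr⟩ := Submodule.mem_sup.1
        (htop hF2.lag hF3.lag d23 ▸ Submodule.mem_top : w ∈ P2 ⊔ P3)
      exact ⟨-q, P2.neg_mem hq, hrel w hw _ (P2.neg_mem hq) (by rw [← hqr]; simpa using hr)⟩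
    · obtain ⟨q, hq, r, hr, hqr⟩ := Submodule.mem_sup.1
        (htop hF1.lag hF3.lag d13 ▸ Submodule.mem_top : z' ∈ P1 ⊔ P3)
      exact ⟨-q, P1.neg_mem hq, hrel _ (P1.neg_mem hq) z' hz' (by rw [← hqr]; simpa using hr)⟩
  obtain ⟨z3, hz3, hz30⟩ := hF2.lag.exists_mem ⊥ (by rw [finrank_bot]; omega)
  have hz30' : z3 ≠ 0 := fun h => hz30 (by rw [h]; exact Submodule.zero_mem _)
  obtain ⟨z4, hz4, hz4n⟩ := hF2.lag.exists_mem (Submodule.span F {z3})
    (by rw [finrank_span_singleton hz30']; omega)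
  have hz40 : z4 ≠ 0 := fun h => hz4n (by rw [h]; exact Submodule.zero_mem _)
  obtain ⟨G3, h3f, h3b, h3e⟩ := third hz3 hz30'
  obtain ⟨G4, h4f, -, h4e⟩ := third hz4 hz40
  set J : Module.End F V1 := G4.toLinearMap ∘ₗ G3.symm.toLinearMap
  have hJ : ∀ w ∈ P1, ∃ w' ∈ P1, ∀ η, C f₂ g v' w' η = C f₂ g v' w (J η) := by
    intro w hw
    obtain ⟨z, hz, hz'⟩ := h4f w hw
    obtain ⟨w', hw', hw''⟩ := h3b z hz
    refine ⟨w', hw', fun η => ?_⟩
    have := (hw'' (G3.symm η)).symm.trans (hz' (G3.symm η))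
    rw [G3.apply_symm_apply] at this
    exact this
  obtain ⟨f, hf, hfe⟩ := hJ e he1
  have hfn : f ∉ Submodule.span F {e} := by
    intro h
    obtain ⟨μ, rfl⟩ := Submodule.mem_span_singleton.1 h
    refine hz4n (Submodule.mem_span_singleton.2 ⟨μ, (hinjC fun η => ?_).symm⟩)
    rw [h4e, C_smul H, h3e, ← C_smul H v' μ, hfe]
    show _ = C f₂ g v' e (G4 (G3.symm (G3 η)))
    rw [G3.symm_apply_apply]
  obtain ⟨f', hf', hf'e⟩ := hJ f hf
  obtain ⟨α, β, hαβ⟩ := mem_plane.1 ((hF1.lag.eq_plane he hfn he1 hf).symm ▸ hf' : f' ∈ plane e f)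
  have hsq : ∀ η, J (J η) = α • η + β • J η := fun η => by
    refine sub_eq_zero.1 (full H hv'0 he ?_)
    rw [map_sub, map_add, map_smul, map_smul, sub_eq_zero, ← hfe, ← hf'e, ← hfe, ← hαβ, C_add H, C_smul H,
      C_smul H]
  let Ee := LinearEquiv.ofBijective (C f₂ g v' e) ((fun h => ⟨h, LinearMap.surjective_of_injective h⟩)
    ((injective_iff_map_eq_zero _).2 fun a ha => full H hv'0 he ha))
  set T : Module.End F V1 := Ee.toLinearMap ∘ₗ J ∘ₗ Ee.symm.toLinearMap
  have hT : ∀ η, T (C f₂ g v' e η) = C f₂ g v' e (J η) := fun η => by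
    show Ee (J (Ee.symm (Ee η))) = _
    rw [Ee.symm_apply_apply]; rfl
  have hTP1 : ∀ w ∈ P1, ∀ η, T (C f₂ g v' w η) = C f₂ g v' w (J η) := by
    intro w hw η
    obtain ⟨a, b, rfl⟩ := mem_plane.1 ((hF1.lag.eq_plane he hfn he1 hf).symm ▸ hw : w ∈ plane e f)
    simp only [C_add H, C_smul H, hfe, map_add, map_smul, hT]
  refine ⟨P1, Φ1, f, T, hF1, he1, hf, hfn, fun w => ?_, fun ξ => by rw [hT, hfe], α, β, ?_⟩
  · have htop : P1 ⊔ P2 = ⊤ := by
      refine Submodule.eq_top_of_finrank_eq ?_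
      have hs := Submodule.finrank_sup_add_finrank_inf_eq P1 P2
      rw [d12, finrank_bot, hF1.lag.rank, hF2.lag.rank] at hs
      have := H.hk4
      rw [Module.finrank_fin_fun]
      omega
    obtain ⟨p, hp, z, hz, rfl⟩ := Submodule.mem_sup.1 (htop ▸ Submodule.mem_top : w ∈ P1 ⊔ P2)
    obtain ⟨p', hp', hp''⟩ := hJ p hp
    obtain ⟨q, hq, hq'⟩ := h3b z hz
    obtain ⟨q', hq'P, hq''⟩ := hJ q hq
    obtain ⟨z', -, hz'⟩ := h3f q' hq'P
    refine ⟨p' + z', fun ξ => ?_⟩
    rw [C_add H, C_add H, map_add, hp'', hTP1 p hp, hz', hq'', hq', hTP1 q hq]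
  · refine LinearMap.ext fun η => ?_
    obtain ⟨η, rfl⟩ := Ee.surjective η
    show T (T (C f₂ g v' e η)) = α • C f₂ g v' e η + β • T (C f₂ g v' e η)
    simp only [hT]
    rw [hsq, map_add, map_smul, map_smul]

/-- There is no element outside the stabiliser. -/
theorem false_of_bad : False := by
  have hk := H.hk4
  have h2 := H.data.h1.two
  set u : V2 := Pi.single ⟨0, by omega⟩ 1
  have hu : u ≠ 0 := by simp [u]
  obtain ⟨va, hva, hvau⟩ := exists_common_zero_not_mem (Submodule.span F {u}) ![formVec f₂ u]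
    (by rw [finrank_span_singleton hu, Fintype.card_fin]; omega)
  have ha0 : va ≠ 0 := fun e => hva (by rw [e]; exact Submodule.zero_mem _)
  have hua : u ∉ Submodule.span F {va} := indep_symm hu hva
  have hoa : f₂ u va = 0 := (hF H).eq_zero_comm (by rw [← (hF H).dot]; exact hvau 0)
  obtain ⟨vb, hvb, hvbu⟩ := exists_common_zero_not_mem (plane va u) ![formVec f₂ u]
    (by rw [finrank_plane ha0 hua, Fintype.card_fin]; omega)
  have hb0 : vb ≠ 0 := fun e => hvb (by rw [e]; exact Submodule.zero_mem _)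
  have hub : u ∉ Submodule.span F {vb} := indep_symm hu fun e => hvb (by
    obtain ⟨c, rfl⟩ := Submodule.mem_span_singleton.1 e
    exact Submodule.smul_mem _ c (right_mem_plane va u))
  have hob : f₂ u vb = 0 := (hF H).eq_zero_comm (by rw [← (hF H).dot]; exact hvbu 0)
  set e : V2 := u
  obtain ⟨Pa, Φa, fa, Ta, hFa, hea, hfa, hfan, hTa, hCa, αa, βa, hqa⟩ := exists_quad H ha0 hua hoa hu
  obtain ⟨Pb, Φb, fb, Tb, hFb, heb, hfb, hfbn, hTb, hCb, αb, βb, hqb⟩ := exists_quad H hb0 hub hob hu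
  set N := nucleus H hu
  have hCinj : ∀ {w w' : V2}, (∀ ξ, C f₂ g u w ξ = C f₂ g u w' ξ) → w = w' := fun {w w'} h => by
    by_contra hne
    set ξ : V1 := Pi.single ⟨0, by have := H.hm4; omega⟩ 1
    have : ξ = 0 := full H hu (sub_ne_zero.2 hne) (by
      rw [show w - w' = w + (-1 : F) • w' by module, C_add H, C_smul H, h, neg_one_smul, add_neg_cancel])
    simp [ξ] at this
  have hzd : ∀ S : Module.End F V1, S ∈ N → ∀ a, a ≠ 0 → S a = 0 → S = 0 := by
    intro S hS a ha hSa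
    set w : V2 := u
    obtain ⟨w', hw'⟩ := hS w
    obtain ⟨ξ, hξ⟩ := LinearMap.surjective_of_injective
      ((injective_iff_map_eq_zero (C f₂ g u w)).2 fun x hx => full H hu hu hx) a
    have hw'0 : w' = 0 := by
      by_contra hne
      refine ha ?_
      have : ξ = 0 := full H hu hne (by rw [hw', hξ, hSa])
      rw [← hξ, this, map_zero]
    refine LinearMap.ext fun x => ?_
    obtain ⟨ξ', hξ'⟩ := LinearMap.surjective_of_injective
      ((injective_iff_map_eq_zero (C f₂ g u w)).2 fun x hx => full H hu hu hx) x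
    rw [← hξ', ← hw', hw'0, show (0 : V2) = (0 : F) • u by rw [zero_smul], C_smul H, zero_smul]
    rfl
  have hprod : ∀ S T : Module.End F V1, S ∈ N → T ∈ N → S * T = 0 → S = 0 ∨ T = 0 := by
    intro S T hS hT h
    by_contra hc
    push Not at hc
    obtain ⟨a, ha⟩ : ∃ a, T a ≠ 0 := by
      by_contra hh
      push Not at hh
      exact hc.2 (LinearMap.ext hh)
    exact hc.1 (hzd S hS (T a) ha (congrArg (fun Z : Module.End F V1 => Z a) h))
  have hne1 : (1 : Module.End F V1) ≠ 0 := fun h => by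
    have := congrArg (fun Z : Module.End F V1 => Z (Pi.single ⟨0, by have := H.hm4; omega⟩ 1)) h
    simp at this
  haveI : Nontrivial N := ⟨⟨1, 0, fun h => hne1 (congrArg Subtype.val h)⟩⟩
  haveI : NoZeroDivisors N := ⟨fun {a b} h => by
    rcases hprod a b a.2 b.2 (congrArg Subtype.val h) with h | h
    · exact Or.inl (Subtype.ext h)
    · exact Or.inr (Subtype.ext h)⟩
  haveI : IsDomain N := NoZeroDivisors.to_isDomain N
  haveI : Finite (Module.End F V1) := Finite.of_injective (fun S => (S : V1 → V1)) DFunLike.coe_injective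
  haveI : Finite N := inferInstance
  have hcomm : ∀ S T : Module.End F V1, S ∈ N → T ∈ N → S * T = T * S := fun S T hS hT =>
    congrArg Subtype.val ((Finite.isDomain_to_isField N).mul_comm ⟨S, hS⟩ ⟨T, hT⟩)
  have hns : ∀ (f : V2) (T : Module.End F V1), f ∉ Submodule.span F {e} →
      (∀ ξ, C f₂ g u f ξ = T (C f₂ g u e ξ)) → ∀ c : F, T ≠ c • 1 := by
    rintro f T hfn hC c rfl
    exact hfn (Submodule.mem_span_singleton.2 ⟨c, (hCinj fun ξ => by rw [hC, C_smul H]; rfl).symm⟩)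
  -- complete the squares
  have hroot : ∀ (T : Module.End F V1) (α β : F), T ∈ N → T * T = α • 1 + β • T → (∀ c : F, T ≠ c • 1) →
      (T - (β / 2) • 1) ∈ N ∧ (T - (β / 2) • 1) * (T - (β / 2) • 1) = (α + β * β / 4) • 1 ∧
        ¬ IsSquare (α + β * β / 4) := by
    intro T α β hT hq hns
    have hX : T - (β / 2) • 1 ∈ N := N.sub_mem hT (N.smul_mem N.one_mem _)
    have hX2 : (T - (β / 2) • 1) * (T - (β / 2) • 1) = (α + β * β / 4) • 1 := by
      simp only [sub_mul, mul_sub, smul_mul_assoc, mul_smul_comm, one_mul, mul_one, hq]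
      have h4 : (4 : F) ≠ 0 := by rw [show (4 : F) = 2 * 2 by norm_num]; exact mul_ne_zero h2 h2
      match_scalars <;> field_simp <;> ring
    refine ⟨hX, hX2, ?_⟩
    rintro ⟨s, hs⟩
    have h0 : (T - (β / 2) • 1 - s • 1) * (T - (β / 2) • 1 + s • 1) = 0 := by
      simp only [sub_mul, mul_add, smul_mul_assoc, mul_smul_comm, one_mul, mul_one, hX2, hs]
      module
    rcases hprod _ _ (N.sub_mem hX (N.smul_mem N.one_mem s)) (N.add_mem hX (N.smul_mem N.one_mem s)) h0 with h | h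
    · exact hns (β / 2 + s) (by linear_combination (norm := module) h)
    · exact hns (β / 2 - s) (by linear_combination (norm := module) h)
  obtain ⟨hXa, hXa2, hda⟩ := hroot Ta αa βa hTa hqa (hns fa Ta hfan hCa)
  obtain ⟨hXb, hXb2, hdb⟩ := hroot Tb αb βb hTb hqb (hns fb Tb hfbn hCb)
  set Xa := Ta - (βa / 2) • 1 with hXadef
  set Xb := Tb - (βb / 2) • 1 with hXbdef
  obtain ⟨s, hs⟩ := Cfsg.Agent.Lib.TensorOrthMax.InvariantOrth.nonsquare_mul h2 hda hdb
  have hXX : (Xa * Xb - s • 1) * (Xa * Xb + s • 1) = 0 := by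
    have hsq : Xa * Xb * (Xa * Xb) = (s * s) • (1 : Module.End F V1) := by
      rw [mul_assoc, ← mul_assoc Xb, ← hcomm Xa Xb hXa hXb, mul_assoc, ← mul_assoc Xa, hXa2, hXb2, smul_mul_assoc,
        one_mul, smul_smul, hs]
    simp only [sub_mul, mul_add, smul_mul_assoc, mul_smul_comm, one_mul, mul_one, hsq]
    module
  have hXbXa : ∃ r : F, Xb = r • Xa := by
    have hd0 : αa + βa * βa / 4 ≠ 0 := fun h => hda (h ▸ IsSquare.zero)
    have key : ∀ t : F, Xa * Xb = t • 1 → Xb = (t / (αa + βa * βa / 4)) • Xa := fun t ht => by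
      have := congrArg (fun Z => Xa * Z) ht
      simp only [← mul_assoc, hXa2, smul_mul_assoc, one_mul, mul_smul_comm, mul_one] at this
      rw [div_eq_inv_mul, ← smul_smul, ← this, inv_smul_smul₀ hd0]
    rcases hprod _ _ (N.sub_mem (N.mul_mem hXa hXb) (N.smul_mem N.one_mem s))
      (N.add_mem (N.mul_mem hXa hXb) (N.smul_mem N.one_mem s)) hXX with h | h
    · exact ⟨_, key s (sub_eq_zero.1 h)⟩
    · exact ⟨_, key (-s) ((eq_neg_of_add_eq_zero_left h).trans (neg_smul s _).symm)⟩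
  obtain ⟨r, hr⟩ := hXbXa
  have hfbm : fb = (βb / 2 - r * (βa / 2)) • e + r • fa := hCinj fun ξ => by
    rw [hCb, C_add H, C_smul H, C_smul H, hCa,
      show Tb = Xb + (βb / 2) • (1 : Module.End F V1) by rw [hXbdef, sub_add_cancel], hr, hXadef]
    simp only [LinearMap.add_apply, LinearMap.smul_apply, LinearMap.sub_apply, Module.End.one_apply]
    module
  have hPP : Pb = Pa := by
    rw [← hFb.lag.eq_plane hu hfbn heb hfb]
    refine hFa.lag.eq_plane hu hfbn hea ?_
    rw [hfbm]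
    exact Pa.add_mem (Pa.smul_mem _ hea) (Pa.smul_mem _ hfa)
  -- both preimages lie in one plane
  obtain ⟨Q, Ψ, hQ, huQ⟩ := exists_fib (symm H) hu hfan (hFa.lag.iso _ hfa _ hea) hu
  have hin : ∀ x : Vec, (g : Big) *ᵥ x ∈ Tn m Pa → ctr (formVec f₂ u) x = 0 → x ∈ Tn m Q := by
    intro x hx hxu
    choose ξ η hξη using fun i => mem_plane.1
      ((hFa.lag.eq_plane hu hfan hea hfa).symm ▸ hx i : slice ((g : Big) *ᵥ x) i ∈ plane e fa)
    have hy : (g : Big) *ᵥ x = tens ξ e + tens η fa := funext fun q => (congrFun (hξη q.1) q.2).symm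
    have hη : η = Ψ ξ := by
      refine sub_eq_zero.1 (full (symm H) (v := fa) (fun h => hfan (by rw [h]; exact Submodule.zero_mem _)) hu ?_)
      rw [map_sub, sub_eq_zero]
      refine add_left_cancel (a := C f₂ g⁻¹ e u ξ) ?_
      rw [hQ.ker u huQ, C_apply (symm H), C_apply (symm H), ← ctr_add, ← mulVec_add, ← hy, gl_inv_mulVec, hxu]
    have := hQ.img ξ
    rw [← hη, ← hy, gl_inv_mulVec] at this
    exact this
  have hcontain : ∀ {v : V2} {P : Submodule F V2} {Φ : V1 →ₗ[F] V1}, v ≠ 0 → u ∉ Submodule.span F {v} →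
      f₂ u v = 0 → Fib f₂ g v u P Φ → P = Pa → plane v u ≤ Q := by
    intro v P Φ hv huv ho hFv hP
    set ξ : V1 := Pi.single ⟨0, by have := H.hm4; omega⟩ 1
    set x := tens ξ v + tens (Φ ξ) u
    have hxu : ctr (formVec f₂ u) x = 0 := (ctr_zero_iff H).2 fun i =>
      (plane_lag H hv huv ho).iso _ (X_mem H hv huv ho ξ (Φ ξ) i) _ (right_mem_plane v u)
    have hx := hin x (hP ▸ hFv.img ξ) hxu
    have hs : slice x ⟨0, by have := H.hm4; omega⟩ = v + (Φ ξ ⟨0, by have := H.hm4; omega⟩) • u :=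
      funext fun d => by simp [x, ξ, slice, tens]
    have h1 := hx ⟨0, by have := H.hm4; omega⟩
    rw [hs] at h1
    refine Submodule.span_le.2 ?_
    rintro z (rfl | rfl)
    · have := Q.sub_mem h1 (Q.smul_mem (Φ ξ ⟨0, by have := H.hm4; omega⟩) huQ)
      rwa [add_sub_cancel_right] at this
    · exact huQ
  have hA := hcontain ha0 hua hoa hFa rfl
  have hB := hcontain hb0 hub hob hFb hPP
  refine hvb ?_
  rw [Submodule.eq_of_le_of_finrank_le hA (by rw [hQ.lag.rank, finrank_plane ha0 hua])]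
  exact hB (left_mem_plane vb u)

omit H in
/-- Rigidity in dimension four. -/
theorem rigid_four (D : Data f₁ f₂ B M) (hm4 : m = 4) (hk4 : k = 4) (hNR : NoRadical f₂ M) :
    M ≤ Cfsg.Geo.kroneckerSubgroup m k F := by
  intro g hg
  by_contra hng
  exact false_of_bad ⟨D, hm4, hk4, hNR, hg, hng⟩

end Cfsg.Agent.Lib.TensorSympOrth.SquareRigid
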