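import Cfsg.Agent.Lib.TensorOrthMax.InvariantOrth

/-!
A space of matrices normalised by the orthogonal group, closed under adjoints and under multiplication on the
right by the symmetric parts of its products, is everything unless it is scalar.
-/

set_option autoImplicit false

namespace Cfsg.Agent.Lib.TensorSympOrth.SymAlgebra

open Matrix
open Cfsg.Agent.Lib.Subspaces.Transvection Cfsg.Agent.Lib.Subspaces.FormVec
  Cfsg.Agent.Lib.TensorFormMax.Basic
  Cfsg.Agent.Lib.TensorOrthMax.Side Cfsg.Agent.Lib.TensorOrthMax.Setup Cfsg.Agent.Lib.TensorOrthMax.InvariantOrth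

variable {F : Type*} [Field F] {m : ℕ} {f : (Fin m → F) → (Fin m → F) → F}

local notation "Vec" => Fin m → F
local notation "Mat" => Matrix (Fin m) (Fin m) F

/-- Adjoint matrices. -/
def Adj (f : (Fin m → F) → (Fin m → F) → F) (A A' : Matrix (Fin m) (Fin m) F) : Prop :=
  ∀ u u', f (A *ᵥ u) u' = f u (A' *ᵥ u')

theorem Adj.symm (hf : Sym f) {A A' : Mat} (h : Adj f A A') : Adj f A' A := fun u u' => by
  rw [hf.comm, ← h, hf.comm]

theorem Adj.unique (hf : Sym f) {A A' A'' : Mat} (h : Adj f A A') (h' : Adj f A A'') : A' = A'' := by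
  refine Matrix.mulVec_injective (funext fun x => sub_eq_zero.1 (hf.eq_zero fun u => ?_))
  rw [hf.subR, ← h, ← h', sub_self]

theorem Adj.mul {A A' C C' : Mat} (h : Adj f A A') (h' : Adj f C C') : Adj f (A * C) (C' * A') := fun u u' => by
  rw [← mulVec_mulVec, h, h', mulVec_mulVec]

theorem Adj.add (hf : Sym f) {A A' C C' : Mat} (h : Adj f A A') (h' : Adj f C C') : Adj f (A + C) (A' + C') :=
  fun u u' => by rw [add_mulVec, add_mulVec, hf.addL, hf.addR, h, h']

theorem Adj.smul (hf : Sym f) {A A' : Mat} (h : Adj f A A') (c : F) : Adj f (c • A) (c • A') := fun u u' => by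
  rw [smul_mulVec, smul_mulVec, hf.smulL, hf.smulR, h]

theorem Adj.one : Adj f (1 : Mat) 1 := fun u u' => by rw [one_mulVec, one_mulVec]

theorem Adj.isometry {g g' : Mat} (hgg : g * g' = 1) (hg : ∀ x y, f (g *ᵥ x) (g *ᵥ y) = f x y) : Adj f g g' :=
  fun u u' => by
    conv_rhs => rw [← hg, mulVec_mulVec, hgg, one_mulVec]

theorem exists_adj [Finite F] (hf : Sym f) (A : Mat) : ∃ A', Adj f A A' := by
  have hsurj := formVec_surjective hf.sf.lin hf.addR hf.nondegenerate
  choose T hT using fun u' : Vec => hsurj (formVec f u' ᵥ* A)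
  have hTd : ∀ u u', f (A *ᵥ u) u' = f u (T u') := fun u u' => by
    rw [← hf.dot (T u'), hT, ← dotProduct_mulVec, hf.dot]
  have hext : ∀ a b : Vec, (∀ u, f u a = f u b) → a = b := fun a b h =>
    sub_eq_zero.1 (hf.eq_zero fun u => by rw [hf.subR, h, sub_self])
  let L : Vec →ₗ[F] Vec :=
    { toFun := T
      map_add' := fun a b => hext _ _ fun u => by rw [← hTd, hf.addR, hf.addR, hTd, hTd]
      map_smul' := fun c a => hext _ _ fun u => by rw [RingHom.id_apply, ← hTd, hf.smulR, hf.smulR, hTd] }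
  exact ⟨LinearMap.toMatrix' L, fun u u' => by rw [hTd, LinearMap.toMatrix'_mulVec]; rfl⟩

/-- The hypotheses. -/
structure Hyp (f : (Fin m → F) → (Fin m → F) → F) (R : Submodule F (Matrix (Fin m) (Fin m) F)) : Prop where
  sym : Sym f
  hm : 3 ≤ m
  big : 4 ≤ m ∨ ∃ c : F, c ≠ 0 ∧ c * c ≠ 1
  one : 1 ∈ R
  inv : ∀ g g' : Matrix (Fin m) (Fin m) F, g * g' = 1 → (∀ x y, f (g *ᵥ x) (g *ᵥ y) = f x y) →
    ∀ A ∈ R, g * A * g' ∈ R
  adj : ∀ A A', A ∈ R → Adj f A A' → A' ∈ R
  jordan : ∀ A A' C C', A ∈ R → C ∈ R → Adj f A A' → Adj f C C' → ∀ X ∈ R, X * (A * C' + C * A') ∈ R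
  nonscalar : ∃ A ∈ R, ∀ c : F, A ≠ c • 1

variable {R : Submodule F (Matrix (Fin m) (Fin m) F)} [Finite F] (H : Hyp f R)
include H

/-- The right idealiser. -/
def right : Subalgebra F (Matrix (Fin m) (Fin m) F) where
  carrier := {X | ∀ Y ∈ R, Y * X ∈ R ∧ ∀ X', Adj f X X' → Y * X' ∈ R}
  mul_mem' := fun {X Z} hX hZ Y hY => by
    refine ⟨by rw [← Matrix.mul_assoc]; exact (hZ _ (hX Y hY).1).1, fun W hW => ?_⟩
    obtain ⟨X', hX'⟩ := exists_adj H.sym X
    obtain ⟨Z', hZ'⟩ := exists_adj H.sym Z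
    rw [hW.unique H.sym (hX'.mul hZ'), ← Matrix.mul_assoc]
    exact (hX _ ((hZ Y hY).2 _ hZ')).2 _ hX'
  add_mem' := fun {X Z} hX hZ Y hY => by
    refine ⟨by rw [mul_add]; exact R.add_mem (hX Y hY).1 (hZ Y hY).1, fun W hW => ?_⟩
    obtain ⟨X', hX'⟩ := exists_adj H.sym X
    obtain ⟨Z', hZ'⟩ := exists_adj H.sym Z
    rw [hW.unique H.sym (hX'.add H.sym hZ'), mul_add]
    exact R.add_mem ((hX Y hY).2 _ hX') ((hZ Y hY).2 _ hZ')
  algebraMap_mem' := fun c Y hY => by
    rw [Algebra.algebraMap_eq_smul_one]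
    refine ⟨by rw [Matrix.mul_smul, mul_one]; exact R.smul_mem c hY, fun W hW => ?_⟩
    rw [hW.unique H.sym (Adj.one.smul H.sym c), Matrix.mul_smul, mul_one]
    exact R.smul_mem c hY

omit [Finite F] in
/-- A skew element has a singular image of every anisotropic vector. -/
theorem skew_iso (hscal : ∀ A A' C C', A ∈ R → C ∈ R → Adj f A A' → Adj f C C' → ∃ c : F, A * C' + C * A' = c • 1)
    {K : Mat} (hK : K ∈ R) (hKK : Adj f K (-K)) {x : Vec} (hx : f x x ≠ 0) :
    f (K *ᵥ x) (K *ᵥ x) = 0 ∧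
      ∃ L ∈ R, Adj f L (-L) ∧ ∀ z, L *ᵥ z = f z x • (K *ᵥ x) - f z (K *ᵥ x) • x := by
  have hf := H.sym
  have h2 := hf.two
  set y := K *ᵥ x with hy
  have hxy : f x y = 0 := by
    have := hKK x x
    rw [← hy, neg_mulVec, ← hy, hf.negR, hf.comm x y] at this
    exact mul_left_cancel₀ h2 (by linear_combination this)
  set r := refl f x
  have hr := H.inv r r (refl_mul_self hf hx) (refl_isometry hf hx) K hK
  set L := (f x x / 2) • (K - r * K * r) with hL
  have hLR : L ∈ R := R.smul_mem _ (R.sub_mem hK hr)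
  have hLz : ∀ z, L *ᵥ z = f z x • y - f z y • x := by
    intro z
    have hKz : f (K *ᵥ z) x = -f z y := by rw [hKK z x, neg_mulVec, hf.negR]
    rw [hL, smul_mulVec, sub_mulVec, ← mulVec_mulVec, ← mulVec_mulVec]
    simp only [r, refl_mulVec hf, mulVec_sub, mulVec_smul, ← hy, hf.subL, hf.smulL, hKz, hf.comm x y, hxy]
    match_scalars <;> field_simp <;> ring
  have hLL : Adj f L (-L) := fun u u' => by
    rw [neg_mulVec, hLz, hLz, hf.negR, hf.subL, hf.smulL, hf.smulL, hf.subR, hf.smulR, hf.smulR, hf.comm u' x,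
      hf.comm u' y]
    ring
  refine ⟨?_, L, hLR, hLL, hLz⟩
  obtain ⟨c, hc⟩ := hscal L (-L) L (-L) hLR hLR hLL hLL
  obtain ⟨z, hz, hzs⟩ := hf.exists_perp (⊥ : Submodule F Vec) ![x, y] (by rw [finrank_bot]; have := H.hm; omega)
  have hz0 : z ≠ 0 := fun e => hz (by rw [e]; exact Submodule.zero_mem _)
  have ez := congrArg (fun Z : Mat => Z *ᵥ z) hc
  simp only [add_mulVec, ← mulVec_mulVec, neg_mulVec, mulVec_neg, smul_mulVec, one_mulVec, hLz] at ez
  rw [show f z x = 0 from hzs 0, show f z y = 0 from hzs 1] at ez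
  simp [hf.zeroL] at ez
  have hc0 : c = 0 := (smul_eq_zero.1 ez.symm).resolve_right hz0
  have ex := congrArg (fun Z : Mat => f (Z *ᵥ x) x) hc
  simp only [add_mulVec, ← mulVec_mulVec, neg_mulVec, mulVec_neg, smul_mulVec, one_mulVec, hLz, hf.subL,
    hf.addL, hf.negL, hf.smulL, hf.comm x y, hxy, hc0] at ex
  have : (2 : F) * (f x x * (f y y * f x x)) = 0 := by linear_combination ex
  exact (mul_eq_zero.1 ((mul_eq_zero.1 ((mul_eq_zero.1 this).resolve_left h2)).resolve_left hx)).resolve_right hx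

theorem eq_top : R = ⊤ := by
  have hf := H.sym
  have h2 := hf.two
  suffices hns : ∃ X ∈ right H, ∀ c : F, X ≠ c • 1 by
    have hH : TensorOrthMax.InvariantOrth.Hyp f (right H) :=
      { sym := hf, hm := H.hm, big := H.big
        noplane := fun _ => Or.inr fun x hx X hX Y hY => by
          have hr2 := refl_mul_self hf hx
          have hri := refl_isometry hf hx
          have hra := Adj.isometry hr2 hri
          have hback : ∀ Z, Z ∈ R → refl f x * Z * refl f x ∈ R := fun Z hZ => H.inv _ _ hr2 hri Z hZ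
          have e : ∀ Z : Mat, Y * (refl f x * Z * refl f x) =
              refl f x * ((refl f x * Y * refl f x) * Z) * refl f x := fun Z => by
            simp only [← Matrix.mul_assoc, hr2, Matrix.one_mul]
          refine ⟨by rw [e]; exact hback _ (hX _ (hback _ hY)).1, fun W hW => ?_⟩
          obtain ⟨X', hX'⟩ := exists_adj hf X
          rw [hW.unique hf ((hra.mul hX').mul hra), ← Matrix.mul_assoc (refl f x), e]
          exact hback _ ((hX _ (hback _ hY)).2 _ hX')
        adj := fun X hX => by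
          obtain ⟨X', hX'⟩ := exists_adj hf X
          refine ⟨X', fun Y hY => ⟨(hX Y hY).2 _ hX', fun W hW => ?_⟩, hX'⟩
          rw [hW.unique hf (hX'.symm hf)]
          exact (hX Y hY).1
        inv := fun a z ha hz X hX Y hY => by
          have hn : f (-z) a = 0 := by rw [hf.negL, hz, neg_zero]
          set g := 1 + eN f a z
          set g' := 1 + eN f a (-z)
          have hgg : g * g' = 1 := by rw [eN_add hf ha hz hn, add_neg_cancel, eN_zero hf, add_zero]
          have hgg' : g' * g = 1 := mul_eq_one_comm.1 hgg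
          have hgi : ∀ p q, f (g *ᵥ p) (g *ᵥ q) = f p q := fun p q => eN_isometry hf ha hz p q
          have hgi' : ∀ p q, f (g' *ᵥ p) (g' *ᵥ q) = f p q := fun p q => eN_isometry hf ha hn p q
          have e : ∀ Z : Mat, Y * (g * Z * g') = g * ((g' * Y * g) * Z) * g' := fun Z => by
            simp only [← Matrix.mul_assoc, hgg, Matrix.one_mul]
          have hback := fun Z hZ => H.inv g g' hgg hgi Z hZ
          have hY' := H.inv g' g hgg' hgi' Y hY
          refine ⟨by rw [e]; exact hback _ (hX _ hY').1, fun W hW => ?_⟩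
          obtain ⟨X', hX'⟩ := exists_adj hf X
          rw [hW.unique hf (((Adj.isometry hgg hgi).mul hX').mul (Adj.isometry hgg' hgi')),
            ← Matrix.mul_assoc g, e]
          exact hback _ ((hX _ hY').2 _ hX')
        nonscalar := hns }
    refine eq_top_iff.2 fun A _ => ?_
    have h := ((TensorOrthMax.InvariantOrth.eq_top hH).symm ▸ Algebra.mem_top : A ∈ right H) 1 H.one
    rw [one_mul] at h
    exact h.1
  by_contra hns
  push Not at hns
  have hscal : ∀ A A' C C', A ∈ R → C ∈ R → Adj f A A' → Adj f C C' → ∃ c : F, A * C' + C * A' = c • 1 := by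
    intro A A' C C' hA hC hAA hCC
    refine hns _ fun Y hY => ⟨H.jordan A A' C C' hA hC hAA hCC Y hY, fun W hW => ?_⟩
    rw [hW.unique hf ((hAA.mul (hCC.symm hf)).add hf (hCC.mul (hAA.symm hf))), add_comm]
    exact H.jordan A A' C C' hA hC hAA hCC Y hY
  obtain ⟨A, hA, hAn⟩ := H.nonscalar
  obtain ⟨A', hA'⟩ := exists_adj hf A
  obtain ⟨c, hc⟩ := hscal A A' 1 1 hA H.one hA' Adj.one
  rw [mul_one, one_mul] at hc
  set K := A - (c / 2) • (1 : Mat) with hKdef
  have hK : K ∈ R := R.sub_mem hA (R.smul_mem _ H.one)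
  have hKK : Adj f K (-K) := fun u u' => by
    have e : -K = A' - (c / 2) • 1 := by
      rw [hKdef, show A' = c • (1 : Mat) - A by rw [← hc]; abel]
      match_scalars <;> field_simp <;> ring
    rw [e, hKdef, sub_mulVec, sub_mulVec, smul_mulVec, smul_mulVec, one_mulVec, one_mulVec, hf.subL, hf.subR,
      hf.smulL, hf.smulR, hA']
  obtain ⟨x, hx, hKx⟩ : ∃ x, f x x ≠ 0 ∧ K *ᵥ x ≠ 0 := by
    by_contra hcon
    push Not at hcon
    obtain ⟨p0, hp0, -⟩ := hf.exists_perp (⊥ : Submodule F Vec) (![] : Fin 0 → Vec)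
      (by rw [finrank_bot]; have := H.hm; omega)
    obtain ⟨p, -, hpp⟩ := hf.exists_aniso (![] : Fin 0 → Vec) (z := p0) (fun i => i.elim0) (by simpa using hp0)
    refine hAn (c / 2) (sub_eq_zero.1 (Matrix.mulVec_injective (funext fun z => ?_)))
    rw [zero_mulVec]
    by_cases hzz : f z z = 0
    · obtain ⟨a, ha⟩ : ∃ a : F, f (z + a • p) (z + a • p) ≠ 0 := by
        by_contra h
        push Not at h
        have e1 := h 1
        have e2 := h (-1)
        rw [hf.expand, hzz] at e1 e2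
        exact hpp (mul_left_cancel₀ h2 (by linear_combination e1 + e2))
      have := hcon _ ha
      rwa [mulVec_add, mulVec_smul, hcon _ hpp, smul_zero, add_zero] at this
    · exact hcon _ hzz
  obtain ⟨hyy, L, hL, hLL, hLz⟩ := skew_iso H hscal hK hKK hx
  obtain ⟨b, hbb, hby⟩ := hf.exists_hyperbolic hKx hyy
  set y := K *ᵥ x
  have hxy : f x y = 0 := by
    have := hKK x x
    rw [neg_mulVec, hf.negR, hf.comm x (K *ᵥ x)] at this
    exact mul_left_cancel₀ h2 (by linear_combination this)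
  have hx2 : f (b + y) (b + y) ≠ 0 := by
    rw [hf.addL, hf.addR, hf.addR, hbb, hby, hyy, hf.comm b y, hby]
    norm_num
    exact h2
  have h := (skew_iso H hscal hL hLL hx2).1
  rw [hLz, hf.subL, hf.smulL, hf.smulL, hf.subR, hf.subR, hf.smulR, hf.smulR, hf.smulR, hf.smulR, hyy, hxy,
    hf.comm x y, hxy, hf.addL b y y, hby, hyy] at h
  exact hx (by linear_combination h)

end Cfsg.Agent.Lib.TensorSympOrth.SymAlgebra
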