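import Cfsg.Agent.Lib.TensorSympOrth.SquareRigid
import Cfsg.Agent.Lib.Forms.TensorFrame
import Cfsg.Agent.Lib.Subspaces.SympGen

/-!
The stabiliser of a symmetric times an alternating factor, the latter not smaller, is maximal in the symplectic group.
-/

set_option autoImplicit false

namespace Cfsg.Agent.Lib.TensorSympOrth.SympMain

open Matrix Kronecker
open Cfsg.Agent.Lib.Subspaces.Transvection Cfsg.Agent.Lib.Subspaces.FormVec
  Cfsg.Agent.Lib.TensorMax.Block Cfsg.Agent.Lib.TensorMax.Lemmas Cfsg.Agent.Lib.TensorFormMax.Basic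
  Cfsg.Agent.Lib.Forms.TensorFrame Cfsg.Agent.Lib.TensorOrthMax.Side Cfsg.Agent.Lib.TensorSympOrth.Full

variable {F : Type*} [Field F]

/-- The transvection at a tensor of rank two is no tensor product. -/
theorem tra_not_kron [Finite F] {m k : ℕ} {f₁ : (Fin m → F) → (Fin m → F) → F}
    {f₂ : (Fin k → F) → (Fin k → F) → F} {B : (Fin m × Fin k → F) → (Fin m × Fin k → F) → F}
    {M : Subgroup (GL (Fin m × Fin k) F)} (D : Data f₁ f₂ B M) :
    ∃ x : Fin m × Fin k → F, ∀ g : GL (Fin m × Fin k) F,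
      (∀ z, (g : Matrix (Fin m × Fin k) (Fin m × Fin k) F) *ᵥ z = z + B z x • x) →
      g ∉ Cfsg.Geo.kroneckerSubgroup m k F := by
  have hm := D.hm
  have hk := D.hk
  have hf := D.h2
  have hs := Cfsg.Agent.Lib.TensorFormMax.SympSide.sform hf
  set v : Fin k → F := Pi.single ⟨0, by omega⟩ 1
  have hv : v ≠ 0 := by simp [v]
  obtain ⟨w, hwn, hwv⟩ := exists_common_zero_not_mem (Submodule.span F {v}) ![formVec f₂ v]
    (by rw [finrank_span_singleton hv, Fintype.card_fin]; omega)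
  have hwv0 : f₂ w v = 0 := by rw [← hs.dot]; exact hwv 0
  obtain ⟨y, hyv, hyw⟩ := Cfsg.Agent.Lib.TensorFormMax.SympSide.dual hf hwn
  have hyv0 : f₂ y v = 0 := hyv v (Submodule.mem_span_singleton_self v)
  set a : Fin m → F := Pi.single ⟨0, by omega⟩ 1
  set b : Fin m → F := Pi.single ⟨1, by omega⟩ 1
  obtain ⟨c, hc⟩ := D.h1.sf.exists_one (show b ≠ 0 by simp [b])
  have hwn' : w ∉ plane v y := fun h => by
    obtain ⟨p, q, hpq⟩ := mem_plane.1 h
    have := hyw
    rw [← hpq, hf.bilinear.add_right, hf.bilinear.smul_right, hf.bilinear.smul_right, hyv0, hf.alternating] at this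
    simp at this
  have hvn' : v ∉ plane w y := fun h => by
    obtain ⟨p, q, hpq⟩ := mem_plane.1 h
    have hq : f₂ v w = 0 := hs.eq_zero_comm hwv0
    rw [← hpq, hf.bilinear.add_left, hf.bilinear.smul_left, hf.bilinear.smul_left, hyw, hf.alternating,
      mul_zero, zero_add, mul_one] at hq
    refine (indep_symm hv hwn) (Submodule.mem_span_singleton.2 ⟨p, ?_⟩)
    rw [← hpq, hq, zero_smul, add_zero]
  obtain ⟨η, hη, hηw⟩ := exists_functional hwn'
  obtain ⟨η', hη', hη'v⟩ := exists_functional hvn'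
  refine ⟨tens a v + tens b w, fun g hg => ?_⟩
  rintro ⟨x, x', hxx⟩
  have himg := hg (tens c y)
  set β := B (tens c y) (tens a v + tens b w)
  have hβ : β = 1 := by simp [β, D.addR, B_tens D, hyv0, hyw, hc]
  rw [hxx, kron_mulVec_tens, hβ, one_smul] at himg
  set p := (x : Matrix (Fin m) (Fin m) F) *ᵥ c
  set q := (x' : Matrix (Fin k) (Fin k) F) *ᵥ y
  have h1 := congrArg (ctr η) himg
  have h2 := congrArg (ctr η') himg
  simp only [ctr_add, ctr_tens, hη v (left_mem_plane v y), hη y (right_mem_plane v y), hηw,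
    hη' w (left_mem_plane w y), hη' y (right_mem_plane w y), hη'v, zero_smul, one_smul, zero_add,
    add_zero] at h1 h2
  have e1 := congrFun h1 ⟨0, by omega⟩
  have e2 := congrFun h2 ⟨0, by omega⟩
  have e3 := congrFun h1 ⟨1, by omega⟩
  simp [a, b] at e1 e2 e3
  rcases e1 with e1 | e1
  · simp [e1] at e3
  · simp [e1] at e2

variable {ι : Type} [Fintype ι] [DecidableEq ι] [Fintype F]

/-- The criterion. -/
theorem maximal_symp (h2 : (2 : F) ≠ 0) (f : (ι → F) → (ι → F) → F) (hf : Cfsg.Geo.IsSymplecticForm f)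
    (K : Subgroup (GL ι F))
    (hK : ∀ g, g ∈ K ↔ ∀ x y, f ((g : Matrix ι ι F) *ᵥ x) ((g : Matrix ι ι F) *ᵥ y) = f x y)
    (hgen : ∀ M : Subgroup (GL ι F),
      (∀ v (a : F), ∃ g ∈ M, ∀ x, (g : Matrix ι ι F) *ᵥ x = x + (a * f x v) • v) → K ≤ M)
    (n₁ n₂ : ℕ) (hm : 3 ≤ n₁) (big : 4 ≤ n₁ ∨ ∃ c : F, c ≠ 0 ∧ c * c ≠ 1) (hk : 4 ≤ n₂)
    (hle : n₁ < n₂ ∨ n₁ = 4 ∧ n₂ = 4)
    (e : ι ≃ Fin n₁ × Fin n₂) (P : GL ι F) (f₁ : (Fin n₁ → F) → (Fin n₁ → F) → F)
    (f₂ : (Fin n₂ → F) → (Fin n₂ → F) → F) (hf₁ : Cfsg.Geo.IsSymmetricForm f₁)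
    (hf₂ : Cfsg.Geo.IsSymplecticForm f₂)
    (hT : Cfsg.Geo.IsTensorFormStructure id f f₁ f₂ e P) :
    Cfsg.Geo.IsMaximalIn K (Cfsg.Geo.tensorProductSubgroup n₁ n₂ e P ⊓ K) := by
  have hb := hf.bilinear
  classical
  have h1 : SForm (RingHom.id F) 1 f₁ :=
    { invol := fun _ => rfl
      lin := isLinearLeft_of_bilinear hf₁.bilinear
      swap := fun x y => by rw [RingHom.id_apply, one_mul]; exact (hf₁.symm x y).symm
      nondeg := fun v hv => (hf₁.nondegenerate v hv).1 }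
  have hl2 := isLinearLeft_of_bilinear hf₂.bilinear
  obtain ⟨c, hc, hBp⟩ := form_pure (f := f) (σ := id) (fun _ _ => rfl)
    (eq_formOfGram h1.lin h1.add_right h1.smul_right)
    (eq_formOfGram hl2 hf₂.bilinear.add_right hf₂.bilinear.smul_right) hT
  set φ : GL (Fin n₁ × Fin n₂) F ≃* GL ι F :=
    (Cfsg.Geo.glReindex (F := F) e.symm).trans (MulAut.conj P) with hφ
  -- coordinates
  let T : (Fin n₁ × Fin n₂ → F) →ₗ[F] (ι → F) :=
    (Matrix.mulVecLin (P : Matrix ι ι F)).comp (LinearMap.funLeft F F e)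
  have hTapp : ∀ z, T z = (P : Matrix ι ι F) *ᵥ (z ∘ e) := fun z => rfl
  have hTinj : Function.Injective T := fun a b h => by
    have := gl_mulVec_injective P (show (P : Matrix ι ι F) *ᵥ (a ∘ e) = _ *ᵥ (b ∘ e) from h)
    funext p
    simpa using congrFun this (e.symm p)
  have hTsurj : Function.Surjective T := fun x =>
    ⟨(((P⁻¹ : GL ι F) : Matrix ι ι F) *ᵥ x) ∘ e.symm, by
      rw [hTapp]
      conv_rhs => rw [← gl_mulVec_inv P x]
      congr 1
      funext i; simp⟩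
  have hφT : ∀ g z, (φ g : Matrix ι ι F) *ᵥ T z =
      T ((g : Matrix (Fin n₁ × Fin n₂) (Fin n₁ × Fin n₂) F) *ᵥ z) := by
    intro g z
    rw [hTapp, hTapp]
    show ((P * Cfsg.Geo.glReindex e.symm g * P⁻¹ : GL ι F) : Matrix ι ι F) *ᵥ _ = _
    rw [gl_mul_mulVec, gl_mul_mulVec, gl_inv_mulVec]
    congr 1
    show (Matrix.reindexAlgEquiv F F e.symm) (g : Matrix (Fin n₁ × Fin n₂) (Fin n₁ × Fin n₂) F) *ᵥ _ = _
    rw [Matrix.reindexAlgEquiv_apply, Matrix.reindex_apply, Equiv.symm_symm, Matrix.submatrix_mulVec_equiv]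
    congr 1
    congr 1
    funext p; simp
  set B : (Fin n₁ × Fin n₂ → F) → (Fin n₁ × Fin n₂ → F) → F := fun x y => c⁻¹ * f (T x) (T y) with hB
  have hc' : c⁻¹ ≠ 0 := inv_ne_zero hc
  have hlin : IsLinearLeft B :=
    ⟨fun x y v => by simp only [hB, map_add, hb.add_left]; ring,
      fun a x v => by simp only [hB, map_smul, hb.smul_left]; ring⟩
  have haddR : ∀ x y z, B x (y + z) = B x y + B x z := fun x y z => by
    simp only [hB, map_add, hb.add_right]; ring
  have hB0 : ∀ u w u' w', B (tens u w) (tens u' w') = f₁ u u' * f₂ w w' := by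
    intro u w u' w'
    show c⁻¹ * f (pure e P u w) (pure e P u' w') = _
    rw [hBp, inv_mul_cancel_left₀ hc]
  have hBz : ∀ z u w, B z (tens u w) = f₁ (ctr (formVec f₂ w) z) u := by
    intro z u w
    let L : (Fin n₁ × Fin n₂ → F) →+ F := AddMonoidHom.mk' (fun x => B x (tens u w))
      fun x y => hlin.add_left x y _
    let R : (Fin n₁ → F) →+ F := AddMonoidHom.mk' (fun x => f₁ x u) fun x y => h1.lin.add_left x y u
    have hctr : ctr (formVec f₂ w) z = ∑ i, f₂ (slice z i) w • (Pi.single i 1 : Fin n₁ → F) := by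
      funext i
      simp [ctr_eq_dot, formVec_dot hl2, Pi.single_apply, Finset.sum_apply]
    conv_lhs => rw [← sum_tens_slice z]
    show L _ = R _
    rw [hctr, map_sum, map_sum]
    refine Finset.sum_congr rfl fun i _ => ?_
    show B _ _ = f₁ _ u
    rw [hB0, h1.lin.smul_left, mul_comm]
  have hisoB : ∀ (g : GL (Fin n₁ × Fin n₂) F) x y, B ((g : Matrix (Fin n₁ × Fin n₂) _ F) *ᵥ x)
      ((g : Matrix (Fin n₁ × Fin n₂) _ F) *ᵥ y) =
      c⁻¹ * f ((φ g : Matrix ι ι F) *ᵥ T x) ((φ g : Matrix ι ι F) *ᵥ T y) := fun g x y => by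
    rw [hφT, hφT]
  have hback : ∀ g : GL (Fin n₁ × Fin n₂) F,
      (∀ x y, B ((g : Matrix (Fin n₁ × Fin n₂) _ F) *ᵥ x) ((g : Matrix (Fin n₁ × Fin n₂) _ F) *ᵥ y) = B x y) →
      ∀ x y, f ((φ g : Matrix ι ι F) *ᵥ x) ((φ g : Matrix ι ι F) *ᵥ y) = f x y := by
    intro g hg x y
    obtain ⟨x, rfl⟩ := hTsurj x
    obtain ⟨y, rfl⟩ := hTsurj y
    exact mul_left_cancel₀ hc' ((hisoB g x y).symm.trans (hg x y))
  have hmem : ∀ x, φ x ∈ Cfsg.Geo.tensorProductSubgroup n₁ n₂ e P ↔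
      x ∈ Cfsg.Geo.kroneckerSubgroup n₁ n₂ F := by
    intro x
    constructor
    · rintro ⟨y, ⟨z, hz, rfl⟩, hy⟩
      have : φ z = φ x := hy
      rwa [← φ.injective this]
    · exact fun hx => ⟨_, ⟨x, hx, rfl⟩, rfl⟩
  have hdata : ∀ M : Subgroup (GL ι F), M ≤ K →
      Cfsg.Geo.tensorProductSubgroup n₁ n₂ e P ⊓ K ≤ M → Data f₁ f₂ B (M.comap φ.toMonoidHom) := by
    intro M hMle hM
    exact
      { h1 := ⟨h1, h2⟩, h2 := hf₂, lin := hlin, addR := haddR
        Bswap := fun x y => by simp only [hB]; rw [hf.skew (T y) (T x)]; ring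
        hB := hBz
        iso := fun g hg x y => by rw [hisoB, (hK _).1 (hMle (show φ g ∈ M from hg))]
        stab := fun g hg hi => hM ⟨(hmem _).2 hg, (hK _).2 (hback g hi)⟩
        hm := hm, big := big, hk := hk }
  refine ⟨lt_of_le_of_ne inf_le_right fun heq => ?_, fun M hM hMle => ?_⟩
  · obtain ⟨x0, hx0⟩ := tra_not_kron (hdata K le_rfl inf_le_right)
    set g : GL ι F := tv (T x0) (c⁻¹ • formVec f (T x0))
    have hgK : g ∈ K :=
      (hK _).2 fun u w => Cfsg.Agent.Lib.Subspaces.SympGen.stv_isometry hf (T x0) c⁻¹ u w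
    refine hx0 (φ.symm g) (fun z => hTinj ?_) ((hmem _).1 ?_)
    · rw [← hφT, φ.apply_symm_apply, Cfsg.Agent.Lib.Subspaces.SympGen.stv_mulVec hf, map_add, map_smul]
    · rw [φ.apply_symm_apply]
      rw [← heq] at hgK
      exact hgK.1
  · have D := hdata M hMle hM
    by_cases hG : NoRadical f₂ (M.comap φ.toMonoidHom)
    · refine Or.inl (le_antisymm (fun x hx => ⟨?_, hMle hx⟩) hM)
      have hle' : M.comap φ.toMonoidHom ≤ Cfsg.Geo.kroneckerSubgroup n₁ n₂ F := by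
        rcases hle with h | ⟨ha, hb'⟩
        · exact rigid_lt D h hG
        · exact SquareRigid.rigid_four D ha hb' hG
      have := (hmem _).2 (hle' (show φ.symm x ∈ M.comap φ.toMonoidHom by
        show φ (φ.symm x) ∈ M; rwa [φ.apply_symm_apply]))
      rwa [φ.apply_symm_apply] at this
    · refine Or.inr (le_antisymm hMle (hgen M fun v a => ?_))
      obtain ⟨v, rfl⟩ := hTsurj v
      obtain ⟨g, hg, hgz⟩ := centre_all D (allHas_all D hG) v (a * c)
      refine ⟨φ g, hg, fun x => ?_⟩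
      obtain ⟨x, rfl⟩ := hTsurj x
      rw [hφT, hgz, map_add, map_smul]
      congr 2
      show a * c * (c⁻¹ * _) = _
      field_simp

end Cfsg.Agent.Lib.TensorSympOrth.SympMain
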